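import Cfsg.Agent.Mrg.Omega.NSix.CaseJ.Exact
import Cfsg.Agent.Mrg.Omega.NO3S.SN.J.N2
import Cfsg.Agent.Mrg.Omega.Lin.OutDef
import Cfsg.Agent.Mrg.Omega.NO3S.SN2.FF.Def

-- merged: Cfsg.Agent.Mrg.Omega.NO3S.SN2.Exact
section

/-!
# SN.Two (bb #21330), `J(S) ≰ O₂(P)`: exact offenders and LEMMA Q

`V = V_P` the even-subset module (`CaseJ.Base.Hyp S P ε`), `A` an exact offender for `(i j)` (`Exact.Ex P ε i j A`),
`A₀ = A ⊓ C(V)`.

* `le_Q`, `sup_mem_AA` : `A₀ ≤ O₂(P)`, `A₀ V ∈ A(O₂(P))`;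
* `split`, `split'`, `act` **(E)** : `C_X(A₀) = V C_X(A)`, `[C_X(A₀), A] ≤ ⟨r_ij⟩` for `X ≥ V` elementary abelian;
* `count0` **(E)** : `|X| |C_{A₀}(X)| ≤ |A₀| |C_X(A₀)|`;
* `two'` **(2')** : `[u, A₀] ≤ ⟨v⟩`, `v^a ≠ v`, `[u, u^a] = 1` imply `[u, A₀] = 1`, `u^a ∈ V u`;
* `lemQ` : LEMMA Q without `v ∈ V`.
-/

set_option autoImplicit false
set_option linter.unusedSectionVars false

namespace Cfsg.Agent.Omega.NO3S.SN2.Exact

open Subgroup Cfsg Cfsg.Agent.PLocal.ThompsonJ Cfsg.Agent.ZN Cfsg.Agent.ZN.ChoiceBase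
open Cfsg.Agent.ZN.ChoiceSit Cfsg.Agent.PLocal.ElemAbSup
open Cfsg.Agent.Omega.MinPar
open Cfsg.Agent.Omega.S5.Def Cfsg.Agent.Omega.S5.Syl Cfsg.Agent.Omega.S5.Pair
open Cfsg.Agent.Omega.NSix.Base Cfsg.Agent.Omega.NSix.Basic
open Cfsg.Agent.Omega.SQ1.Bau (mem_AA_of_comm elem_comm elem_sq mem_sup_comm card_sup_comm)
open Cfsg.Agent.Omega.NSix.CaseJ.Base Cfsg.Agent.Omega.NSix.CaseJ.Exact
open Cfsg.Agent.Omega.NSix.CaseJ

universe u

variable {G : Type u} [Group G] [Finite G] {S : Sylow 2 G} {P : Subgroup G} {m : ℕ}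
  {ε : (Fin (2 ^ m + 1) → ZMod 2) → G} {i j : Fin (2 ^ m + 1)} {A : Subgroup G}

section

variable (h : Hyp S P ε) (hA : Ex P ε i j A)
include h hA

/-- `A₀ ≤ O₂(P)`. -/
theorem le_Q : A ⊓ centralizer (zl (S : Subgroup G) P : Set G) ≤ o2 P := by
  intro a ha
  refine h.two (hA.AP ha.1) (fun v hv => (mem_centralizer_iff.1 ha.2 v hv).symm) ⟨1, ?_⟩
  rw [pow_one, pow_two]
  exact hA.sq ha.1

/-- `A₀` and `V` commute. -/
theorem A0_comm : ∀ a ∈ A ⊓ centralizer (zl (S : Subgroup G) P : Set G), ∀ v ∈ zl (S : Subgroup G) P,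
    a * v = v * a := fun _ ha v hv => (mem_centralizer_iff.1 ha.2 v hv).symm

/-- `|A| ≤ |A₀ V|`. -/
theorem card_le (hij : i ≠ j) : Nat.card A ≤
    Nat.card ↥((A ⊓ centralizer (zl (S : Subgroup G) P : Set G)) ⊔ zl (S : Subgroup G) P : Subgroup G) := by
  set V := zl (S : Subgroup G) P with hV
  set A0 := A ⊓ centralizer (V : Set G) with hA0
  have h1 := card_sup_comm (A0_comm h hA)
  rw [← hV, ← hA0] at h1
  obtain ⟨a, ha, ha'⟩ := hA.ex
  have h2 : 2 * Nat.card ↥(A0 ⊓ V) ≤ Nat.card V := by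
    refine two_mul_card_le inf_le_right fun hle => ?_
    have h3 := (hle (zz_mem h.ev i)).1.1
    have h4 := (h.ev.fixes_iff h.three ha' i).1 (elem_comm hA.elem a ha _ h3)
    rw [Equiv.swap_apply_left] at h4
    exact hij h4.symm
  have hp : 0 < Nat.card ↥(A0 ⊓ V) := Nat.card_pos
  have h4 : Nat.card A * Nat.card ↥(A0 ⊓ V) ≤ Nat.card ↥(A0 ⊔ V : Subgroup G) * Nat.card ↥(A0 ⊓ V) := by
    rw [h1, hA.card_A0 h hij]
    calc 2 * Nat.card A0 * Nat.card ↥(A0 ⊓ V) = Nat.card A0 * (2 * Nat.card ↥(A0 ⊓ V)) := by ring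
      _ ≤ Nat.card A0 * Nat.card V := Nat.mul_le_mul_left _ h2
  exact Nat.le_of_mul_le_mul_right h4 hp

/-- `A₀ V` is elementary abelian. -/
theorem sup_el : IsElementaryAbelian 2
    ((A ⊓ centralizer (zl (S : Subgroup G) P : Set G)) ⊔ zl (S : Subgroup G) P : Subgroup G) :=
  sup_elem (isElementaryAbelian_mono hA.elem inf_le_left) (LemQ.V_elem h) (A0_comm h hA)

/-- `A₀ V` has maximal order among the elementary abelian subgroups of `G`. -/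
theorem sup_max (hij : i ≠ j) (B : Subgroup G) (hB : IsElementaryAbelian 2 B) : Nat.card B ≤
    Nat.card ↥((A ⊓ centralizer (zl (S : Subgroup G) P : Set G)) ⊔ zl (S : Subgroup G) P : Subgroup G) :=
  (hA.card B hB).trans (card_le h hA hij)

/-- **`A₀ V ∈ A(O₂(P))`.** -/
theorem sup_mem_AA (hij : i ≠ j) :
    (A ⊓ centralizer (zl (S : Subgroup G) P : Set G)) ⊔ zl (S : Subgroup G) P ∈ AA (o2 P) :=
  ⟨sup_el h hA, sup_le (le_Q h hA) h.VQ, fun B hB _ => sup_max h hA hij B hB⟩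

/-- **(E), first part**: `X = V C_X(A)` if `A₀` centralises `X ≥ V`. -/
theorem split (hij : i ≠ j) {X : Subgroup G} (hX : IsElementaryAbelian 2 X)
    (hVX : zl (S : Subgroup G) P ≤ X)
    (hc : ∀ a ∈ A ⊓ centralizer (zl (S : Subgroup G) P : Set G), ∀ x ∈ X, a * x = x * a)
    {x : G} (hx : x ∈ X) : ∃ v ∈ zl (S : Subgroup G) P, ∃ c ∈ X, (∀ a ∈ A, a * c = c * a) ∧ x = v * c := by
  set V := zl (S : Subgroup G) P with hV
  set A0 := A ⊓ centralizer (V : Set G) with hA0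
  have h1 := count hA.elem hX hA.card
  have h2 : A ⊓ centralizer (X : Set G) = A0 := by
    apply le_antisymm
    · exact fun b hb => ⟨hb.1, mem_centralizer_iff.2 fun v hv => mem_centralizer_iff.1 hb.2 v (hVX hv)⟩
    · exact fun b hb => ⟨hb.1, mem_centralizer_iff.2 fun v hv => (hc b hb v hv).symm⟩
  rw [h2, hA.card_A0 h hij] at h1
  set C := X ⊓ centralizer (A : Set G) with hC
  have hA0p : 0 < Nat.card A0 := Nat.card_pos
  have h3 : Nat.card X ≤ 2 * Nat.card C := by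
    have h4 : Nat.card A0 * Nat.card X ≤ Nat.card A0 * (2 * Nat.card C) := by
      calc Nat.card A0 * Nat.card X = Nat.card X * Nat.card A0 := mul_comm _ _
        _ ≤ 2 * Nat.card A0 * Nat.card C := h1
        _ = Nat.card A0 * (2 * Nat.card C) := by ring
    exact Nat.le_of_mul_le_mul_left h4 hA0p
  obtain ⟨b, hb, hb'⟩ := hA.ex
  have hcm : ∀ v ∈ V, ∀ c ∈ C, v * c = c * v := fun v hv c hc' => elem_comm hX v (hVX hv) c hc'.1
  have h5 : C ≤ V ⊔ C := le_sup_right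
  have h6 : ¬ V ⊔ C ≤ C := fun hle => by
    have h7 := mem_centralizer_iff.1 (hle (mem_sup_left (zz_mem h.ev i))).2 b hb
    have h8 := (h.ev.fixes_iff h.three hb' i).1 h7
    rw [Equiv.swap_apply_left] at h8
    exact hij h8.symm
  have h7 := two_mul_card_le h5 h6
  have h8 : V ⊔ C = X := Subgroup.eq_of_le_of_card_ge (sup_le hVX inf_le_left) (h3.trans h7)
  rw [← h8] at hx
  obtain ⟨v, hv, c, hc', rfl⟩ := mem_sup_comm hcm hx
  exact ⟨v, hv, c, hc'.1, fun a ha => mem_centralizer_iff.1 hc'.2 a ha, rfl⟩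

/-- **(E)**: `C_X(A₀) = V C_X(A)`. -/
theorem split' (hij : i ≠ j) {X : Subgroup G} (hX : IsElementaryAbelian 2 X)
    (hVX : zl (S : Subgroup G) P ≤ X) {x : G} (hx : x ∈ X)
    (hc : ∀ a ∈ A ⊓ centralizer (zl (S : Subgroup G) P : Set G), a * x = x * a) :
    ∃ v ∈ zl (S : Subgroup G) P, ∃ c ∈ X, (∀ a ∈ A, a * c = c * a) ∧ x = v * c := by
  have h1 : zl (S : Subgroup G) P ≤
      X ⊓ centralizer ((A ⊓ centralizer (zl (S : Subgroup G) P : Set G) : Subgroup G) : Set G) := fun v hv =>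
    ⟨hVX hv, mem_centralizer_iff.2 fun a ha => A0_comm h hA a ha v hv⟩
  obtain ⟨v, hv, c, hc', h2, h3⟩ := split h hA hij (isElementaryAbelian_mono hX inf_le_left) h1
    (fun a ha y hy => mem_centralizer_iff.1 hy.2 a ha) (x := x)
    ⟨hx, mem_centralizer_iff.2 fun a ha => hc a ha⟩
  exact ⟨v, hv, c, hc'.1, h2, h3⟩

/-- **(E)**: `[C_X(A₀), A] ≤ ⟨r_ij⟩`. -/
theorem act (hij : i ≠ j) {X : Subgroup G} (hX : IsElementaryAbelian 2 X)
    (hVX : zl (S : Subgroup G) P ≤ X) {x : G} (hx : x ∈ X)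
    (hc : ∀ a ∈ A ⊓ centralizer (zl (S : Subgroup G) P : Set G), a * x = x * a) {a : G} (ha : a ∈ A) :
    a * x * a⁻¹ = x ∨ a * x * a⁻¹ = x * rr ε i j := by
  obtain ⟨v, hv, c, hcX, hcA, rfl⟩ := split' h hA hij hX hVX hx hc
  have e1 : a * c * a⁻¹ = c := by rw [hcA a ha, mul_inv_cancel_right]
  have e2 : a * (v * c) * a⁻¹ = a * v * a⁻¹ * (a * c * a⁻¹) := by group
  rw [e2, e1]
  rcases hA.comm_V h ha hv with h9 | h9
  · left; rw [h9]
  · right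
    rw [h9, mul_assoc, mul_assoc, elem_comm hX _ (hVX (rr_mem h.ev i j)) c hcX]

/-- **(E), the count** `|X : C_X(A₀)| ≤ |A₀ : C_{A₀}(X)|`. -/
theorem count0 (hij : i ≠ j) {X : Subgroup G} (hX : IsElementaryAbelian 2 X)
    (hVX : zl (S : Subgroup G) P ≤ X) :
    Nat.card X *
      Nat.card ↥((A ⊓ centralizer (zl (S : Subgroup G) P : Set G)) ⊓ centralizer (X : Set G)) ≤
    Nat.card ↥(A ⊓ centralizer (zl (S : Subgroup G) P : Set G)) *
      Nat.card ↥(X ⊓ centralizer ((A ⊓ centralizer (zl (S : Subgroup G) P : Set G) : Subgroup G) : Set G)) := by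
  have h0 := sup_el h hA
  have hm := sup_max h hA hij
  have hcm := A0_comm h hA
  set V := zl (S : Subgroup G) P with hV
  set A0 := A ⊓ centralizer (V : Set G) with hA0
  have h1 := count h0 hX hm
  have h2 : X ⊓ centralizer ((A0 ⊔ V : Subgroup G) : Set G) ≤ X ⊓ centralizer (A0 : Set G) :=
    inf_le_inf_left _ (centralizer_le (SetLike.coe_subset_coe.2 le_sup_left))
  have hVc : V ≤ centralizer (X : Set G) := fun v hv => mem_centralizer_iff.2 fun x hx =>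
    elem_comm hX x hx v (hVX hv)
  have h3 : (A0 ⊓ centralizer (X : Set G)) ⊔ V ≤ (A0 ⊔ V) ⊓ centralizer (X : Set G) :=
    sup_le (le_inf (inf_le_left.trans le_sup_left) inf_le_right) (le_inf le_sup_right hVc)
  have h4 := card_sup_comm (A := A0 ⊓ centralizer (X : Set G)) (B := V) fun a ha v hv => hcm a ha.1 v hv
  have h5 := card_sup_comm hcm
  have h6 : A0 ⊓ centralizer (X : Set G) ⊓ V = A0 ⊓ V := by
    apply le_antisymm
    · exact fun x hx => ⟨hx.1.1, hx.2⟩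
    · exact fun x hx => ⟨⟨hx.1, hVc hx.2⟩, hx.2⟩
  rw [h6] at h4
  have hVp : 0 < Nat.card V := Nat.card_pos
  have h7 := Subgroup.card_le_of_le h2
  have h8 := Subgroup.card_le_of_le h3
  refine Nat.le_of_mul_le_mul_right ?_ hVp
  calc Nat.card X * Nat.card ↥(A0 ⊓ centralizer (X : Set G)) * Nat.card V
      = Nat.card X * Nat.card ↥((A0 ⊓ centralizer (X : Set G)) ⊔ V : Subgroup G) * Nat.card ↥(A0 ⊓ V) := by
        rw [mul_assoc, ← h4, mul_assoc]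
    _ ≤ Nat.card X * Nat.card ↥((A0 ⊔ V) ⊓ centralizer (X : Set G)) * Nat.card ↥(A0 ⊓ V) :=
        Nat.mul_le_mul_right _ (Nat.mul_le_mul_left _ h8)
    _ ≤ Nat.card ↥(A0 ⊔ V : Subgroup G) * Nat.card ↥(X ⊓ centralizer ((A0 ⊔ V : Subgroup G) : Set G)) *
          Nat.card ↥(A0 ⊓ V) := Nat.mul_le_mul_right _ h1
    _ ≤ Nat.card ↥(A0 ⊔ V : Subgroup G) * Nat.card ↥(X ⊓ centralizer (A0 : Set G)) * Nat.card ↥(A0 ⊓ V) :=
        Nat.mul_le_mul_right _ (Nat.mul_le_mul_left _ h7)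
    _ = Nat.card A0 * Nat.card ↥(X ⊓ centralizer (A0 : Set G)) * Nat.card V := by
        rw [mul_right_comm, h5, mul_right_comm]

/-- **(2')** -/
theorem two' (hij : i ≠ j) {u v a : G} (hu : u ∈ o2 P) (hu2 : u * u = 1)
    (hv : v ∈ zl (S : Subgroup G) P)
    (huA : ∀ b ∈ A ⊓ centralizer (zl (S : Subgroup G) P : Set G), b * u * b⁻¹ = u ∨ b * u * b⁻¹ = v * u)
    (ha : a ∈ A) (ha' : Acts ε a (Equiv.swap i j)) (hva : a * v * a⁻¹ ≠ v)
    (hc : u * (a * u * a⁻¹) = a * u * a⁻¹ * u) :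
    (∀ b ∈ A ⊓ centralizer (zl (S : Subgroup G) P : Set G), b * u = u * b) ∧
      ∃ w ∈ zl (S : Subgroup G) P, a * u * a⁻¹ = w * u := by
  obtain ⟨w, hw, hwu⟩ := LemQ.core h hA hij le_rfl hu hu2 hv huA ha ha' hva rfl hc
  refine ⟨fun b hb => ?_, w, hw, hwu⟩
  rcases huA b hb with h1 | h1
  · exact LemQ.comm_of_conj h1
  exfalso
  apply hva
  have hab : a * b = b * a := elem_comm hA.elem a ha b hb.1
  have hbw : b * w * b⁻¹ = w := by rw [A0_comm h hA b hb w hw, mul_inv_cancel_right]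
  have e1 : b * (a * u * a⁻¹) * b⁻¹ = w * (v * u) := by
    rw [hwu]
    calc b * (w * u) * b⁻¹ = (b * w * b⁻¹) * (b * u * b⁻¹) := by group
      _ = w * (v * u) := by rw [hbw, h1]
  have e2 : b * (a * u * a⁻¹) * b⁻¹ = a * v * a⁻¹ * (w * u) := by
    calc b * (a * u * a⁻¹) * b⁻¹ = (b * a) * u * (b * a)⁻¹ := by group
      _ = a * (b * u * b⁻¹) * a⁻¹ := by rw [← hab]; group
      _ = a * v * a⁻¹ * (a * u * a⁻¹) := by rw [h1]; group
      _ = a * v * a⁻¹ * (w * u) := by rw [hwu]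
  have e3 : a * v * a⁻¹ * (w * u) = w * (v * u) := e2.symm.trans e1
  have e4 : w * v = v * w := h.ev.comm_mem hw hv
  calc a * v * a⁻¹ = (a * v * a⁻¹ * (w * u)) * (w * u)⁻¹ := by group
    _ = w * (v * u) * (w * u)⁻¹ := by rw [e3]
    _ = w * v * w⁻¹ := by group
    _ = v := by rw [e4, mul_inv_cancel_right]

end

/-- **LEMMA Q** without `v ∈ V`. -/
theorem lemQ (h : Hyp S P ε) {u v : G} (hu : u ∈ o2 P) (hu2 : u * u = 1)
    (hc : ∀ q ∈ o2 P, q * u * q⁻¹ = u ∨ q * u * q⁻¹ = v * u) : u ∈ zl (S : Subgroup G) P := by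
  by_cases hall : ∀ q ∈ o2 P, q * u * q⁻¹ = u
  · exact LemQ.oz h hu hu2 fun q hq => LemQ.comm_of_conj (hall q hq)
  push Not at hall
  obtain ⟨q, hq, hqu⟩ := hall
  have hq1 : q * u * q⁻¹ = v * u := (hc q hq).resolve_left hqu
  have hv1 : v ≠ 1 := fun e => hqu (by rw [hq1, e, one_mul])
  have hvQ : v ∈ o2 P := by
    have e : v = q * u * q⁻¹ * u⁻¹ := by rw [hq1]; group
    rw [e]
    exact mul_mem (mul_mem (mul_mem hq hu) (inv_mem hq)) (inv_mem hu)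
  -- elements of `Q` fixing `u` fix `v`
  have key : ∀ r ∈ o2 P, r * u * r⁻¹ = u → r * v * r⁻¹ = v := by
    intro r hr hru
    have e : (r * q) * u * (r * q)⁻¹ = r * v * r⁻¹ * u := by
      calc (r * q) * u * (r * q)⁻¹ = r * (q * u * q⁻¹) * r⁻¹ := by group
        _ = r * v * r⁻¹ * (r * u * r⁻¹) := by rw [hq1]; group
        _ = r * v * r⁻¹ * u := by rw [hru]
    rcases hc (r * q) (mul_mem hr hq) with h1 | h1
    · exfalso
      rw [e] at h1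
      have h2 : r * v * r⁻¹ = 1 := by
        calc r * v * r⁻¹ = r * v * r⁻¹ * u * u⁻¹ := by group
          _ = 1 := by rw [h1, mul_inv_cancel]
      apply hv1
      calc v = r⁻¹ * (r * v * r⁻¹) * r := by group
        _ = 1 := by rw [h2]; group
    · rw [e] at h1
      exact mul_right_cancel h1
  have huv : u * v * u⁻¹ = v := key u hu (by group)
  have hvv : v * v = 1 := by
    have e1 : (v * u) * (v * u) = 1 := by
      rw [← hq1]
      calc q * u * q⁻¹ * (q * u * q⁻¹) = q * (u * u) * q⁻¹ := by group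
        _ = 1 := by rw [hu2]; group
    calc v * v = v * (u * v * u⁻¹) := by rw [huv]
      _ = (v * u) * (v * u) * (u * u)⁻¹ := by group
      _ = 1 := by rw [e1, hu2, inv_one, mul_one]
  have hvc : ∀ r ∈ o2 P, r * v = v * r := by
    intro r hr
    rcases hc r hr with h1 | h1
    · exact LemQ.comm_of_conj (key r hr h1)
    · -- `q⁻¹ r` fixes `u`
      have h2 : q⁻¹ * r * u * (q⁻¹ * r)⁻¹ = u := by
        calc q⁻¹ * r * u * (q⁻¹ * r)⁻¹ = q⁻¹ * (r * u * r⁻¹) * q := by group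
          _ = q⁻¹ * (q * u * q⁻¹) * q := by rw [h1, hq1]
          _ = u := by group
      have h3 := key _ (mul_mem (inv_mem hq) hr) h2
      -- `q` fixes `v`
      have h4 : q * v * q⁻¹ = v := by
        have e : (q * q) * u * (q * q)⁻¹ = q * v * q⁻¹ * (v * u) := by
          calc (q * q) * u * (q * q)⁻¹ = q * (q * u * q⁻¹) * q⁻¹ := by group
            _ = q * (v * u) * q⁻¹ := by rw [hq1]
            _ = q * v * q⁻¹ * (q * u * q⁻¹) := by group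
            _ = q * v * q⁻¹ * (v * u) := by rw [hq1]
        rcases hc (q * q) (mul_mem hq hq) with h5 | h5
        · rw [e] at h5
          calc q * v * q⁻¹ = (q * v * q⁻¹ * (v * u)) * (u⁻¹ * v⁻¹) := by group
            _ = v⁻¹ := by rw [h5]; group
            _ = v := inv_eq_of_mul_eq_one_left hvv
        · exfalso
          rw [e] at h5
          have h6 : q * v * q⁻¹ = 1 := by
            calc q * v * q⁻¹ = (q * v * q⁻¹ * (v * u)) * (v * u)⁻¹ := by group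
              _ = 1 := by rw [h5, mul_inv_cancel]
          apply hv1
          calc v = q⁻¹ * (q * v * q⁻¹) * q := by group
            _ = 1 := by rw [h6]; group
      have h5 : r * v * r⁻¹ = v := by
        calc r * v * r⁻¹ = q * (q⁻¹ * r * v * (q⁻¹ * r)⁻¹) * q⁻¹ := by group
          _ = v := by rw [h3, h4]
      exact LemQ.comm_of_conj h5
  exact LemQ.mem h hu hu2 (LemQ.oz h hvQ hvv hvc) hv1 hc

end Cfsg.Agent.Omega.NO3S.SN2.Exact

end

-- merged: Cfsg.Agent.Mrg.Omega.NO3S.SN.TwoP.Five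
section

section


/-!
# THEOREM TWO PAIRS (helper586, #20800 (4), (5); helper28 #21330 (5))

In the relative frame `Fr` there are no two pairs `{i, i'}`, `{k, k'}` of letters in `D` which are moved by `T`, if
`C_V(O₂(R)) ≤ D`, `A₀` does not over-offend on `E_j / (E₁ ∩ E₂)` (`E_j = D ⟨z_j ^ R⟩`) and `C_{O₂(R)}(V)` does not
centralise `E₁`.
-/

set_option autoImplicit false
set_option linter.unusedSectionVars false

namespace Cfsg.Agent.Omega.NO3S.SN.TwoP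

open Subgroup Cfsg Cfsg.Agent.PLocal.ThompsonJ Cfsg.Agent.ZN Cfsg.Agent.ZN.ChoiceBase
open Cfsg.Agent.ZN.ChoiceSit Cfsg.Agent.PLocal.ElemAbSup
open Cfsg.Agent.Omega.MinPar
open Cfsg.Agent.Omega.S5.Def Cfsg.Agent.Omega.S5.Syl Cfsg.Agent.Omega.S5.Pair
open Cfsg.Agent.Omega.NSix.Base Cfsg.Agent.Omega.NSix.Basic
open Cfsg.Agent.Omega.SQ1.Bau (mem_AA_of_comm elem_comm elem_sq mem_sup_comm card_sup_comm)
open Cfsg.Agent.Omega.NSix.CaseJ.Base Cfsg.Agent.Omega.NSix.CaseJ.Exact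
open Cfsg.Agent.Omega.NSix.CaseJ.LemQ

universe u

/-! ### The four-group `{1, x, y, xy}` -/

section four

variable {G : Type u} [Group G]

open Classical in
/-- the functional with kernel `{1, x y}` -/
noncomputable def qf (x y g : G) : ZMod 2 := if g = 1 ∨ g = x * y then 0 else 1

theorem qf_mul {x y : G} (hx : x * x = 1) (hy : y * y = 1) (hxy : x * y = y * x) (hx1 : x ≠ 1) (hy1 : y ≠ 1)
    (hne : x ≠ y) {g h : G} (hg : g = 1 ∨ g = x ∨ g = y ∨ g = x * y) (hh : h = 1 ∨ h = x ∨ h = y ∨ h = x * y) :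
    qf x y (g * h) = qf x y g + qf x y h := by
  have e1 : x ≠ x * y := fun h0 => hy1 (left_eq_mul.1 h0)
  have e2 : y ≠ x * y := fun h0 => hx1 (right_eq_mul.1 h0)
  have e3 : x * y ≠ 1 := fun h0 => hne (by
    calc x = x * (y * y) := by rw [hy, mul_one]
      _ = y := by rw [← mul_assoc, h0, one_mul])
  have v1 : qf x y 1 = 0 := if_pos (Or.inl rfl)
  have v2 : qf x y (x * y) = 0 := if_pos (Or.inr rfl)
  have v3 : qf x y x = 1 := if_neg fun h0 => h0.elim hx1 e1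
  have v4 : qf x y y = 1 := if_neg fun h0 => h0.elim hy1 e2
  have z : (0 : ZMod 2) = 1 + 1 := by decide
  have m1 : x * (x * y) = y := by rw [← mul_assoc, hx, one_mul]
  have m2 : y * x = x * y := hxy.symm
  have m3 : y * (x * y) = x := by rw [hxy, ← mul_assoc, hy, one_mul]
  have m4 : x * y * x = y := by rw [hxy, mul_assoc, hx, mul_one]
  have m5 : x * y * y = x := by rw [mul_assoc, hy, mul_one]
  have m6 : x * y * (x * y) = 1 := by rw [mul_assoc, m3, hx]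
  rcases hg with rfl | rfl | rfl | rfl <;> rcases hh with rfl | rfl | rfl | rfl
  · rw [mul_one, v1, add_zero]
  · rw [one_mul, v1, zero_add]
  · rw [one_mul, v1, zero_add]
  · rw [one_mul, v1, zero_add]
  · rw [mul_one, v1, add_zero]
  · rw [hx, v1, v3]; exact z
  · rw [v2, v3, v4]; exact z
  · rw [m1, v4, v3, v2, add_zero]
  · rw [mul_one, v1, add_zero]
  · rw [m2, v2, v3, v4]; exact z
  · rw [hy, v1, v4]; exact z
  · rw [m3, v3, v4, v2, add_zero]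
  · rw [mul_one, v1, add_zero]
  · rw [m4, v4, v3, v2, zero_add]
  · rw [m5, v3, v4, v2, zero_add]
  · rw [m6, v1, v2, add_zero]

theorem qf_eq_zero {x y g : G} : qf x y g = 0 ↔ g = 1 ∨ g = x * y := by
  unfold qf
  by_cases h : g = 1 ∨ g = x * y
  · rw [if_pos h]; exact ⟨fun _ => h, fun _ => rfl⟩
  · rw [if_neg h]; exact ⟨fun h0 => absurd h0 one_ne_zero, fun h0 => absurd h0 h⟩

end four

variable {G : Type u} [Group G] [Finite G] {S : Sylow 2 G} {P : Subgroup G} {m : ℕ}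
  {ε : (Fin (2 ^ m + 1) → ZMod 2) → G}

/-- Sums of at most six letters. -/
theorem ne_of_six (h : NSix.CaseJ.Base.Hyp S P ε) (h3 : 3 ≤ m) {y : Fin (2 ^ m + 1) → ZMod 2}
    {s : Finset (Fin (2 ^ m + 1))} (hs : s.card ≤ 6) (h0 : ∀ j, j ∉ s → y j = 0) {a : Fin (2 ^ m + 1)}
    (ha : y a = 1) : ε y ≠ 1 := by
  intro h1
  rcases (h.ev.ker y).1 h1 with h2 | h2
  · rw [h2] at ha
    exact zero_ne_one ha
  · obtain ⟨j, hj⟩ : ∃ j, j ∉ s := exists_not_mem s (by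
      have : 2 ^ 3 ≤ 2 ^ m := Nat.pow_le_pow_right (by norm_num) h3
      omega)
    have h3 := h0 j hj
    rw [h2] at h3
    exact one_ne_zero h3

namespace Fr

variable {M₀ D T R : Subgroup G} (f : Fr S P ε M₀ D T R)
include f

/-- **(4), (5).** -/
theorem five {i i' k k' : Fin (2 ^ m + 1)} (hii : i ≠ i') (hkk : k ≠ k') (hik : i ≠ k) (hik' : i ≠ k')
    (hi'k : i' ≠ k) (hi'k' : i' ≠ k') (hx : rr ε i i' ∈ D) (hy : rr ε k k' ∈ D) (hi : zz ε i ∉ D)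
    (hk : zz ε k ∉ D) {A : Subgroup G} (hA : Ex P ε i k A)
    (H1 : ∀ v ∈ zl (S : Subgroup G) P, (∀ b ∈ o2 R, b * v = v * b) → v ∈ D)
    {F₁ F₂ : Subgroup G} {κ : ℕ}
    (hF1 : ∀ e, e ∈ F₁ ↔ e ∈ Mod D R (zz ε i) ∧ ∀ b ∈ A ⊓ centralizer (zl (S : Subgroup G) P : Set G),
      b * e * b⁻¹ * e⁻¹ ∈ Mod D R (zz ε i) ⊓ Mod D R (zz ε k))
    (hF2 : ∀ e, e ∈ F₂ ↔ e ∈ Mod D R (zz ε k) ∧ ∀ b ∈ A ⊓ centralizer (zl (S : Subgroup G) P : Set G),
      b * e * b⁻¹ * e⁻¹ ∈ Mod D R (zz ε i) ⊓ Mod D R (zz ε k))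
    (hκ : κ * Nat.card ↥((A ⊓ centralizer (zl (S : Subgroup G) P : Set G)) ⊓ o2 R) =
      Nat.card ↥(A ⊓ centralizer (zl (S : Subgroup G) P : Set G)))
    (k1 : κ * Nat.card F₁ ≤ Nat.card (Mod D R (zz ε i))) (k2 : κ * Nat.card F₂ ≤ Nat.card (Mod D R (zz ε k)))
    (H3 : ∃ e ∈ Mod D R (zz ε i), ∃ q ∈ o2 P ⊓ o2 R, q * e ≠ e * q) : False := by
  classical
  have hm3 : 3 ≤ m := f.hN.m3
  have h3 := f.h.three
  obtain ⟨V, hV⟩ : ∃ V, V = zl (S : Subgroup G) P := ⟨_, rfl⟩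
  obtain ⟨x, hxd⟩ : ∃ x, x = rr ε i i' := ⟨_, rfl⟩
  obtain ⟨y, hyd⟩ : ∃ y, y = rr ε k k' := ⟨_, rfl⟩
  set E₁ := Mod D R (zz ε i) with hE₁
  set E₂ := Mod D R (zz ε k) with hE₂
  set A0 := A ⊓ centralizer (zl (S : Subgroup G) P : Set G) with hA0
  set B₁ := A0 ⊓ o2 R with hB₁
  obtain ⟨a, haA, haσ⟩ := hA.ex
  have hVW : V ≤ WW ε := hV ▸ f.V_WW
  have hE1W : E₁ ≤ WW ε := f.Mod_WW (f.V_WW (zz_mem f.h.ev i))
  have hE2W : E₂ ≤ WW ε := f.Mod_WW (f.V_WW (zz_mem f.h.ev k))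
  set E := V ⊔ (E₁ ⊔ E₂) with hE
  have hEW : E ≤ WW ε := sup_le hVW (sup_le hE1W hE2W)
  have hA0Q : A0 ≤ o2 P := SN2.Exact.le_Q f.h hA
  have hA0T : A0 ≤ T := hA0Q.trans f.QT
  have hA0R : A0 ≤ R := hA0T.trans f.TR
  have hA0V : ∀ b ∈ A0, ∀ v ∈ V, b * v = v * b := fun b hb v hv => f.h.VcQ (hA0Q hb) (hV ▸ hv)
  have hxD : x ∈ D := hxd ▸ hx
  have hyD : y ∈ D := hyd ▸ hy
  have hxx : x * x = 1 := hxd ▸ rr_sq f.h.ev i i'
  have hyy : y * y = 1 := hyd ▸ rr_sq f.h.ev k k'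
  have hxy : x * y = y * x := WW_comm (f.D_WW hxD) (f.D_WW hyD)
  have hx1 : x ≠ 1 := hxd ▸ rr_ne_one f.h.ev h3 hii
  have hy1 : y ≠ 1 := hyd ▸ rr_ne_one f.h.ev h3 hkk
  have hne : x ≠ y := by
    rw [hxd, hyd]
    exact NSix.CaseJ.Fus.rr_ne f.h.ev f.h.five hii hik.symm hik'.symm
  -- nonzero letters
  have nz : ∀ {j j' : Fin (2 ^ m + 1)}, rr ε j j' ∈ D → zz ε j ∉ D → j ≠ 0 ∧ j' ≠ 0 := by
    intro j j' h1 h2
    refine ⟨fun h4 => h2 (h4 ▸ f.z_mem), fun h4 => h2 ?_⟩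
    rw [h4] at h1
    have h5 := D.mul_mem h1 f.z_mem
    have h6 : rr ε j 0 * zz ε 0 = zz ε j := by
      change zz ε j * zz ε 0 * zz ε 0 = zz ε j
      rw [mul_assoc, zz_sq f.h.ev, mul_one]
    rwa [h6] at h5
  obtain ⟨hi0, hi'0⟩ := nz hx hi
  obtain ⟨hk0, hk'0⟩ := nz hy hk
  have haz : a ∈ centralizer ({zz ε 0} : Set G) :=
    cz_of_acts haσ (Equiv.swap_apply_of_ne_of_ne hi0.symm hk0.symm)
  have haP := hA.AP haA
  -- commutators
  have cE1 : ∀ b ∈ o2 R, ∀ e ∈ E₁, b * e * b⁻¹ * e⁻¹ = 1 ∨ b * e * b⁻¹ * e⁻¹ = x := fun b hb e he =>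
    f.comm_Mod (f.V_WW (zz_mem f.h.ev i)) hxD (fun t ht => hxd ▸ f.comm_zz hii hx ht) hb he
  have cE2 : ∀ b ∈ o2 R, ∀ e ∈ E₂, b * e * b⁻¹ * e⁻¹ = 1 ∨ b * e * b⁻¹ * e⁻¹ = y := fun b hb e he =>
    f.comm_Mod (f.V_WW (zz_mem f.h.ev k)) hyD (fun t ht => hyd ▸ f.comm_zz hkk hy ht) hb he
  have hmE : ∀ e ∈ E, ∃ v ∈ V, ∃ e₁ ∈ E₁, ∃ e₂ ∈ E₂, e = v * (e₁ * e₂) := by
    intro e he
    obtain ⟨v, hv, w, hw, rfl⟩ := mem_sup_comm (fun x hx y hy => WW_comm (hVW hx) (sup_le hE1W hE2W hy)) he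
    obtain ⟨e₁, he₁, e₂, he₂, rfl⟩ := mem_sup_comm (fun x hx y hy => WW_comm (hE1W hx) (hE2W hy)) hw
    exact ⟨v, hv, e₁, he₁, e₂, he₂, rfl⟩
  have cprod : ∀ b ∈ R, ∀ e ∈ WW ε, ∀ e' ∈ WW ε,
      b * (e * e') * b⁻¹ * (e * e')⁻¹ = (b * e * b⁻¹ * e⁻¹) * (b * e' * b⁻¹ * e'⁻¹) := by
    intro b hb e he e' he'
    exact comm_prod (WW_comm he (mul_mem (WW_conj (f.R_cz hb) he') (inv_mem he')))
  have cE : ∀ b ∈ B₁, ∀ e ∈ E, b * e * b⁻¹ * e⁻¹ = 1 ∨ b * e * b⁻¹ * e⁻¹ = x ∨ b * e * b⁻¹ * e⁻¹ = y ∨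
      b * e * b⁻¹ * e⁻¹ = x * y := by
    intro b hb e he
    obtain ⟨v, hv, e₁, he₁, e₂, he₂, rfl⟩ := hmE e he
    have hbR := hA0R hb.1
    rw [cprod b hbR v (hVW hv) _ (mul_mem (hE1W he₁) (hE2W he₂)), cprod b hbR e₁ (hE1W he₁) e₂ (hE2W he₂),
      comm_iff.2 (hA0V b hb.1 v hv), one_mul]
    rcases cE1 b hb.2 e₁ he₁ with h4 | h4 <;> rcases cE2 b hb.2 e₂ he₂ with h5 | h5 <;> rw [h4, h5]
    · left; rw [one_mul]
    · right; right; left; rw [one_mul]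
    · right; left; rw [mul_one]
    · right; right; right; rfl
  have hcD : ∀ b ∈ B₁, ∀ e ∈ E, b * e * b⁻¹ * e⁻¹ ∈ D := by
    intro b hb e he
    rcases cE b hb e he with h4 | h4 | h4 | h4 <;> rw [h4]
    · exact one_mem _
    · exact hxD
    · exact hyD
    · exact mul_mem hxD hyD
  -- `A₀` normalises `E₁`, `E₂`, `E`
  have nE1 : ∀ b ∈ A0, ∀ e ∈ E₁, b * e * b⁻¹ ∈ E₁ := fun b hb e he => f.Mod_norm (hA0R hb) he
  have nE2 : ∀ b ∈ A0, ∀ e ∈ E₂, b * e * b⁻¹ ∈ E₂ := fun b hb e he => f.Mod_norm (hA0R hb) he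
  have hE1E : E₁ ≤ E := le_sup_left.trans le_sup_right
  have hE2E : E₂ ≤ E := le_sup_right.trans le_sup_right
  have hVE : V ≤ E := le_sup_left
  -- centralisers lie in `O`
  have hcO : ∀ b ∈ A0, (∀ e ∈ E, b * e = e * b) → b ∈ B₁ := by
    intro b hb hbe
    refine ⟨hb, ?_⟩
    refine f.mem_O (M := E₁) (fun r hr e he => f.Mod_norm hr he) (mem_Mod _ _ _) (zz_mem f.h.ev i) hi (hA0T hb) ?_
    intro e he
    rw [comm_iff.2 (hbe e (hE1E he))]
    exact one_mem _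
  -- the conjugates of `x`, `y`, `x y` by `a`
  have hxa : a * x * a⁻¹ = rr ε k i' := by
    rw [hxd, rr_conj haσ, Equiv.swap_apply_left, Equiv.swap_apply_of_ne_of_ne hii.symm hi'k]
  have hya : a * y * a⁻¹ = rr ε i k' := by
    rw [hyd, rr_conj haσ, Equiv.swap_apply_right, Equiv.swap_apply_of_ne_of_ne hik'.symm hkk.symm]
  have hxya : a * (x * y) * a⁻¹ = x * y := by
    have e1 : a * (x * y) * a⁻¹ = (a * x * a⁻¹) * (a * y * a⁻¹) := by group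
    rw [e1, hxa, hya, hxd, hyd]
    change zz ε k * zz ε i' * (zz ε i * zz ε k') = zz ε i * zz ε i' * (zz ε k * zz ε k')
    have c1 := zz_comm f.h.ev k i'
    have c2 := zz_comm f.h.ev k i
    have c3 := zz_comm f.h.ev i i'
    calc zz ε k * zz ε i' * (zz ε i * zz ε k') = zz ε i' * (zz ε k * zz ε i) * zz ε k' := by
          rw [c1]; group
      _ = zz ε i' * zz ε i * zz ε k * zz ε k' := by rw [c2]; group
      _ = _ := by rw [← c3]; group
  -- the count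
  have hel : IsElementaryAbelian 2 (E ⊔ cj a E : Subgroup G) :=
    isElementaryAbelian_mono WW_elem (sup_le hEW (by
      rintro _ ⟨e, he, rfl⟩
      exact WW_conj haz (hEW he)))
  have hcount := count2 (B := A0) (B₁ := B₁) (E := E) (U := WW ε) (a := a) hEW
    (fun e he => WW_conj haz (hEW he)) (fun u hu v hv => WW_comm hu hv)
    (fun b hb => elem_comm hA.elem a haA b hb.1) inf_le_left hcO
    (fun e b => qf x y (b * e * b⁻¹ * e⁻¹))
    (by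
      intro e he e' he' b hb
      rw [cprod b (hA0R hb.1) e (hEW he) e' (hEW he')]
      exact qf_mul hxx hyy hxy hx1 hy1 hne (cE b hb e he) (cE b hb e' he'))
    (by
      intro e he b hb b' hb'
      have e1 : (b * b') * e * (b * b')⁻¹ * e⁻¹ = b * (b' * e * b'⁻¹ * e⁻¹) * b⁻¹ * (b * e * b⁻¹ * e⁻¹) := by group
      rw [e1, f.conj_D (hA0R hb.1) (hcD b' hb' e he), add_comm]
      exact qf_mul hxx hyy hxy hx1 hy1 hne (cE b' hb' e he) (cE b hb e he))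
    (by
      intro b hb h4
      have h5 : ∀ e ∈ E₁, b * e = e * b := by
        intro e he
        have h6 := qf_eq_zero.1 (h4 e (hE1E he))
        rw [← comm_iff]
        rcases cE1 b hb.2 e he with h7 | h7
        · exact h7
        · exfalso
          rw [h7] at h6
          rcases h6 with h6 | h6
          · exact hx1 h6
          · exact hy1 (left_eq_mul.1 h6)
      have h6 : ∀ e ∈ E₂, b * e = e * b := by
        intro e he
        have h6 := qf_eq_zero.1 (h4 e (hE2E he))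
        rw [← comm_iff]
        rcases cE2 b hb.2 e he with h7 | h7
        · exact h7
        · exfalso
          rw [h7] at h6
          rcases h6 with h6 | h6
          · exact hy1 h6
          · exact hx1 (right_eq_mul.1 h6)
      intro e he
      obtain ⟨v, hv, e₁, he₁, e₂, he₂, rfl⟩ := hmE e he
      have c1 : Commute b v := hA0V b hb.1 v hv
      have c2 : Commute b e₁ := h5 e₁ he₁
      have c3 : Commute b e₂ := h6 e₂ he₂
      exact (c1.mul_right (c2.mul_right c3)).eq)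
    (by
      intro e he e' he' b hb h4
      rw [qf_eq_zero]
      have n1 : ∀ {p q : Fin (2 ^ m + 1)}, p ≠ q → ∀ {s t : Fin (2 ^ m + 1)}, s ≠ p → t ≠ p →
          rr ε p q ≠ rr ε s t := fun {p q} hpq {s t} hs ht => NSix.CaseJ.Fus.rr_ne f.h.ev f.h.five hpq hs ht
      have h5 : b * e * b⁻¹ * e⁻¹ = 1 ∨ b * e * b⁻¹ * e⁻¹ = rr ε k i' ∨ b * e * b⁻¹ * e⁻¹ = rr ε i k' ∨
          b * e * b⁻¹ * e⁻¹ = x * y := by
        rw [h4]
        rcases cE b hb e' he' with h6 | h6 | h6 | h6 <;> rw [h6]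
        · left; group
        · right; left; exact hxa
        · right; right; left; exact hya
        · right; right; right; exact hxya
      rcases cE b hb e he with h6 | h6 | h6 | h6
      · exact Or.inl h6
      · exfalso
        rw [h6] at h5
        rcases h5 with h7 | h7 | h7 | h7
        · exact hx1 h7
        · rw [hxd] at h7
          exact n1 hii hik.symm hii.symm h7
        · rw [hxd, rr_symm f.h.ev i i'] at h7
          exact n1 hii.symm hii hi'k'.symm h7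
        · exact hy1 (left_eq_mul.1 h7)
      · exfalso
        rw [h6] at h5
        rcases h5 with h7 | h7 | h7 | h7
        · exact hy1 h7
        · rw [hyd, rr_symm f.h.ev k k'] at h7
          exact n1 hkk.symm hkk hi'k' h7
        · rw [hyd] at h7
          exact n1 hkk hik hkk.symm h7
        · exact hx1 (right_eq_mul.1 h7)
      · exact Or.inr h6)
    (SN2.Exact.count0 f.h hA hik hel (hV ▸ (hVE.trans le_sup_left)))
  -- the lower bound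
  have hlow := split2 (B := A0) (E₁ := E₁) (E₂ := E₂) (V := V) (U := WW ε) (k := κ)
    (fun u hu v hv => WW_comm hu hv) hVW hE1W hE2W
    (fun v hv => mem_centralizer_iff.2 fun b hb => hA0V b hb v hv) nE1 nE2 hF1 hF2 k1 k2
  rw [← hE] at hlow
  have hB1p : 0 < Nat.card B₁ := Nat.card_pos
  have hCp : 0 < Nat.card ↥(E ⊓ centralizer (A0 : Set G)) := Nat.card_pos
  have hA0p : 0 < Nat.card A0 := Nat.card_pos
  have hκ0 : 0 < κ := by
    rcases Nat.eq_zero_or_pos κ with h4 | h4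
    · rw [h4, zero_mul] at hκ
      omega
    · exact h4
  have r1 : Nat.card E ≤ κ * Nat.card ↥(E ⊓ centralizer (A0 : Set G)) := by
    have h4 : Nat.card E * Nat.card B₁ ≤ (κ * Nat.card ↥(E ⊓ centralizer (A0 : Set G))) * Nat.card B₁ := by
      calc Nat.card E * Nat.card B₁ ≤ Nat.card A0 * Nat.card ↥(E ⊓ centralizer (A0 : Set G)) := hcount
        _ = (κ * Nat.card B₁) * Nat.card ↥(E ⊓ centralizer (A0 : Set G)) := by rw [hκ]
        _ = _ := by ring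
    exact Nat.le_of_mul_le_mul_right h4 hB1p
  have hκ1 : κ = 1 := by
    have h4 : κ * κ * Nat.card ↥(E ⊓ centralizer (A0 : Set G)) ≤ κ * Nat.card ↥(E ⊓ centralizer (A0 : Set G)) :=
      hlow.trans r1
    have h5 : κ * κ ≤ κ := Nat.le_of_mul_le_mul_right h4 hCp
    nlinarith
  rw [hκ1, one_mul] at r1 hκ
  have hEc : E ≤ centralizer (A0 : Set G) := by
    have h4 : E ⊓ centralizer (A0 : Set G) = E := Subgroup.eq_of_le_of_card_ge inf_le_left r1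
    rw [← h4]
    exact inf_le_right
  -- the end
  obtain ⟨e, he, q, hq, hqe⟩ := H3
  have hqx : q * e * q⁻¹ * e⁻¹ = x := (cE1 q hq.2 e he).resolve_left fun h4 => hqe (comm_iff.1 h4)
  have heE : e ∈ E := hE1E he
  have h4 := SN2.Exact.act f.h hA hik (isElementaryAbelian_mono WW_elem hEW) (hV ▸ hVE) heE
    (fun b hb => mem_centralizer_iff.1 (hEc heE) b hb) haA
  obtain ⟨v, hv, hev⟩ : ∃ v ∈ V, a * e * a⁻¹ = e * v := by
    rcases h4 with h5 | h5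
    · exact ⟨1, one_mem _, by rw [mul_one]; exact h5⟩
    · exact ⟨rr ε i k, hV ▸ rr_mem f.h.ev i k, h5⟩
  obtain ⟨q', hq'⟩ : ∃ q', q' = a * q * a⁻¹ := ⟨_, rfl⟩
  have hq'Q : q' ∈ o2 P := hq' ▸ f.h.Qn haP hq.1
  have h5 : q' * (e * v) * q'⁻¹ * (e * v)⁻¹ = rr ε k i' := by
    rw [← hxa, ← hqx, ← hev, hq']
    group
  have h6 : q' * e * q'⁻¹ * e⁻¹ = rr ε k i' := by
    rw [← h5]
    have h7 : q' * v * q'⁻¹ = v := by rw [f.h.VcQ hq'Q (hV ▸ hv), mul_inv_cancel_right]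
    calc q' * e * q'⁻¹ * e⁻¹ = q' * e * q'⁻¹ * v * v⁻¹ * e⁻¹ := by group
      _ = q' * e * q'⁻¹ * (q' * v * q'⁻¹) * v⁻¹ * e⁻¹ := by rw [h7]
      _ = _ := by group
  have hrE : rr ε k i' ∈ E₁ := by
    rw [← h6]
    exact mul_mem (f.Mod_norm (f.TR (f.QT hq'Q)) he) (inv_mem he)
  apply hk
  refine H1 _ (zz_mem f.h.ev k) fun c hc => ?_
  obtain ⟨σ, hσ⟩ := f.acts_of (f.T_le (f.OT hc))
  have hcC := f.syl.1 (f.OT hc)
  have hσk := f.perm_of hcC hσ hkk hy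
  have hσi' : σ i' = i' ∨ σ i' = i := f.perm_of hcC hσ hii.symm (by rw [rr_symm f.h.ev]; exact hx)
  rcases hσk with h7 | h7
  · have h8 := zz_conj hσ k
    rw [h7] at h8
    exact comm_of_conj h8
  · exfalso
    have h8 := cE1 c hc _ hrE
    rw [rr_conj hσ, h7, rr_inv f.h.ev] at h8
    -- `rr k' (σ i') * rr k i' ∈ {1, rr i i'}`
    have hs : ∀ a b c d : Fin (2 ^ m + 1), rr ε a b * rr ε c d =
        ε (Pi.single a 1 + Pi.single b 1 + (Pi.single c 1 + Pi.single d 1)) := by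
      intro a b c d
      rw [f.h.ev.add, ← rr_eq f.h.ev, ← rr_eq f.h.ev]
    rcases h8 with h8 | h8
    · rw [hs] at h8
      refine ne_of_six f.h hm3 (s := {k', σ i', k, i'}) (a := k)
        ((Finset.card_le_four).trans (by norm_num)) (fun j hj => ?_) ?_ h8
      · simp only [Finset.mem_insert, Finset.mem_singleton, not_or] at hj
        simp only [Pi.add_apply]
        rw [Pi.single_eq_of_ne hj.1, Pi.single_eq_of_ne hj.2.1, Pi.single_eq_of_ne hj.2.2.1,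
          Pi.single_eq_of_ne hj.2.2.2]
        rfl
      · simp only [Pi.add_apply]
        have n1 : k ≠ σ i' := by
          rcases hσi' with h9 | h9 <;> rw [h9]
          · exact hi'k.symm
          · exact hik.symm
        rw [Pi.single_eq_of_ne hkk, Pi.single_eq_of_ne n1, Pi.single_eq_same, Pi.single_eq_of_ne hi'k.symm]
        rfl
    · rw [hs, hxd] at h8
      have h9 : ε (Pi.single k' 1 + Pi.single (σ i') 1 + (Pi.single k 1 + Pi.single i' 1) +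
          (Pi.single i 1 + Pi.single i' 1)) = 1 := by
        rw [f.h.ev.add, h8, ← rr_eq f.h.ev, rr_sq f.h.ev]
      refine ne_of_six f.h hm3 (s := {k', σ i', k, i', i}) (a := k)
        ((Finset.card_le_five).trans (by norm_num)) (fun j hj => ?_) ?_ h9
      · simp only [Finset.mem_insert, Finset.mem_singleton, not_or] at hj
        simp only [Pi.add_apply]
        rw [Pi.single_eq_of_ne hj.1, Pi.single_eq_of_ne hj.2.1, Pi.single_eq_of_ne hj.2.2.1,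
          Pi.single_eq_of_ne hj.2.2.2.1, Pi.single_eq_of_ne hj.2.2.2.2]
        rfl
      · simp only [Pi.add_apply]
        have n1 : k ≠ σ i' := by
          rcases hσi' with h9 | h9 <;> rw [h9]
          · exact hi'k.symm
          · exact hik.symm
        rw [Pi.single_eq_of_ne hkk, Pi.single_eq_of_ne n1, Pi.single_eq_same, Pi.single_eq_of_ne hi'k.symm,
          Pi.single_eq_of_ne hik.symm]
        rfl

end Fr

end Cfsg.Agent.Omega.NO3S.SN.TwoP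

end

section


/-!
# THEOREM TWO PAIRS (helper28 #21330 (5)) from the output of the FF step (helper421)

`SN2.FF.Out F V Q T R M₀ D E (D ⟨z_i ^ R⟩) z_i Rel` for two pairs `{i, i'}`, `{k, k'}` of letters in `D`, all atoms of
`D` of size at most two (`[V, C_L(D)] ≤ D`): contradiction.

* `Fr.out_inter` : the `R`-invariant subgroups of `M` which are centralised by `O₂(R)` lie in `D`;
* `Fr.out_index` : `|A₀ : A₀ ∩ O₂(R)| |{e ∈ M : [e, A₀] ≤ D}| ≤ |M|`;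
* `Fr.out_two` : `|F| = 2`;
* `Fr.out_move` : `C_{O₂(R)}(V)` does not centralise `M`;
* `Fr.five_out`.
-/

set_option autoImplicit false
set_option linter.unusedSectionVars false

namespace Cfsg.Agent.Omega.NO3S.SN.TwoP

open Subgroup Cfsg Cfsg.Agent.PLocal.ThompsonJ Cfsg.Agent.ZN Cfsg.Agent.ZN.ChoiceBase
open Cfsg.Agent.ZN.ChoiceSit Cfsg.Agent.PLocal.ElemAbSup
open Cfsg.Agent.Omega.MinPar
open Cfsg.Agent.Omega.S5.Def Cfsg.Agent.Omega.S5.Syl Cfsg.Agent.Omega.S5.Pair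
open Cfsg.Agent.Omega.NSix.Base Cfsg.Agent.Omega.NSix.Basic
open Cfsg.Agent.Omega.NSix.CaseJ.Base Cfsg.Agent.Omega.NSix.CaseJ.Exact
open Cfsg.Agent.Omega.NSix.CaseJ.LemQ
open Cfsg.Agent.Omega.NO3S.SN2.FF (Out)
open Cfsg.Agent.Omega.NatPair (ap ap_zero' ap_one' exists_ap ext2)
open Cfsg.Agent.Lib.SL2Mat

universe u

variable {G : Type u} [Group G] [Finite G] {S : Sylow 2 G} {P : Subgroup G} {m : ℕ}
  {ε : (Fin (2 ^ m + 1) → ZMod 2) → G}

theorem relIndex_mul_card' {H K : Subgroup G} (h : H ≤ K) : H.relIndex K * Nat.card H = Nat.card K := by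
  have h1 := relIndex_mul_relIndex ⊥ H K bot_le h
  rw [relIndex_bot_left, relIndex_bot_left] at h1
  rw [mul_comm]; exact h1

theorem relIndex_mul {A B : Subgroup G} : B.relIndex A * Nat.card ↥(A ⊓ B) = Nat.card A := by
  rw [← inf_relIndex_left A B]
  exact relIndex_mul_card' inf_le_left

namespace Fr

variable {M₀ D T R : Subgroup G} (f : Fr S P ε M₀ D T R)
include f

section out

variable {F : Type} [Field F] [Finite F] {y₀ : G} {E : Subgroup G} {Rel : Set (Subgroup G)}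
  (o : Out F (zl (S : Subgroup G) P) (o2 P) T R M₀ D E (Mod D R y₀) y₀ Rel)
  (hwV : y₀ ∈ zl (S : Subgroup G) P) (hi : y₀ ∉ D)
include o hwV hi

omit hwV hi in
theorem out_eq {v w : G} (hv : v ∈ Mod D R y₀) (hw : w ∈ Mod D R y₀) (h : o.e v = o.e w) :
    v⁻¹ * w ∈ D := by
  have h1 : o.e (v⁻¹ * w) + o.e v = o.e w := by
    rw [add_comm, ← o.mul v hv _ (mul_mem (inv_mem hv) hw), mul_inv_cancel_left]
  rw [h, add_eq_right] at h1
  exact (o.ker _ (mul_mem (inv_mem hv) hw)).1 h1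

omit hwV hi in
theorem out_D {v d : G} (hv : v ∈ Mod D R y₀) (hd : d ∈ D) : o.e (d * v) = o.e v := by
  rw [o.mul d (D_le_Mod _ _ _ hd) v hv, (o.ker d (D_le_Mod _ _ _ hd)).2 hd, zero_add]

omit hwV hi in
/-- commutators in `D` -/
theorem out_comm {v b : G} (hv : v ∈ Mod D R y₀) (hc : b * v * b⁻¹ * v⁻¹ ∈ D) :
    o.e (b * v * b⁻¹) = o.e v := by
  rw [← f.out_D o hv hc, inv_mul_cancel_right]

theorem out_inter (H1 : ∀ v ∈ zl (S : Subgroup G) P, (∀ b ∈ o2 R, b * v = v * b) → v ∈ D) {I : Subgroup G}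
    (hI : I ≤ Mod D R y₀) (hIR : ∀ r ∈ R, ∀ e ∈ I, r * e * r⁻¹ ∈ I) (hDI : D ≤ I)
    (hIO : ∀ e ∈ I, ∀ b ∈ o2 R, b * e = e * b) : I ≤ D := by
  intro e he
  by_contra heD
  have h1 : o.e e ≠ 0 := fun h0 => heD ((o.ker e (hI he)).1 h0)
  have h2 : o.e y₀ ≠ 0 := fun h0 => hi ((o.ker _ (mem_Mod _ _ _)).1 h0)
  obtain ⟨A, hA⟩ := exists_ap h1 h2
  obtain ⟨g, hg, hgA⟩ := o.lift A
  have h3 : o.e (g * e * g⁻¹) = o.e y₀ := by rw [hgA e (hI he), hA]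
  have h4 := f.out_eq o (hI (hIR g hg e he)) (mem_Mod _ _ _) h3
  have h5 : y₀ ∈ I := by
    have := I.mul_mem (hIR g hg e he) (hDI h4)
    rwa [mul_inv_cancel_left] at this
  exact hi (H1 _ hwV fun b hb => hIO _ h5 b hb)

omit hwV hi in
theorem out_index {B F₁ : Subgroup G} (hB : B ∈ Rel)
    (hF : ∀ e, e ∈ F₁ ↔ e ∈ Mod D R y₀ ∧ ∀ b ∈ B, b * e * b⁻¹ * e⁻¹ ∈ D) :
    (o2 R).relIndex B * Nat.card F₁ ≤ Nat.card (Mod D R y₀) := by
  by_cases hBO : B ≤ o2 R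
  · rw [relIndex_eq_one.2 hBO, one_mul]
    exact Subgroup.card_le_of_le fun e he => ((hF e).1 he).1
  · have h1 : F₁ ≤ zl (S : Subgroup G) P ⊓ Mod D R y₀ := by
      intro e he
      obtain ⟨heM, hec⟩ := (hF e).1 he
      refine ⟨(o.line e heM).2 ?_, heM⟩
      obtain ⟨b, hb, hb1⟩ := (o.root B hB hBO).2 1
      have h2 := f.out_comm o heM (hec b hb)
      rw [hb1 e heM] at h2
      have h3 := congrFun h2 0
      rw [ap_zero', up_00, up_01, one_mul, one_mul] at h3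
      exact add_eq_left.1 h3
    have h2 : D ≤ zl (S : Subgroup G) P ⊓ Mod D R y₀ := le_inf f.D_le (D_le_Mod _ _ _)
    have h3 := relIndex_mul_card' h2
    have h4 := relIndex_mul_card' (D_le_Mod D R y₀)
    rw [o.card] at h3
    rw [o.cardM] at h4
    rw [o.F1 B hB hBO, o.card, ← h4, pow_two, mul_assoc, h3]
    exact Nat.mul_le_mul_left _ (Subgroup.card_le_of_le h1)

/-- **`|F| = 2`** if all atoms of `D` have size at most two. -/
theorem out_two (hE : ∃ B ∈ Rel, ¬ B ≤ o2 R) (hRT : ∀ B ∈ Rel, B ≤ T)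
    (hV2 : ∀ g ∈ normalizer (zl (S : Subgroup G) P : Set G), g ∈ centralizer (D : Set G) →
      ∀ v ∈ zl (S : Subgroup G) P, g * v * g⁻¹ * v⁻¹ ∈ D) (c : F) (hc : c ≠ 0) : c = 1 := by
  set M := Mod D R y₀ with hM
  obtain ⟨d, hd, hdA⟩ := o.lift (dg c hc)
  obtain ⟨B, hB, hBO⟩ := hE
  have hRM : ∀ r ∈ R, ∀ e ∈ M, r * e * r⁻¹ ∈ M := fun r hr e he => f.Mod_norm hr he
  -- the kernel
  let K : Subgroup G :=
    { carrier := {r | r ∈ R ∧ ∀ e ∈ M, r * e * r⁻¹ * e⁻¹ ∈ D}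
      one_mem' := ⟨one_mem _, fun e _ => by
        have : (1 : G) * e * 1⁻¹ * e⁻¹ = 1 := by group
        rw [this]; exact one_mem _⟩
      mul_mem' := by
        rintro r s ⟨hr, h2⟩ ⟨hs, h3⟩
        refine ⟨mul_mem hr hs, fun e he => ?_⟩
        have h4 : (r * s) * e * (r * s)⁻¹ * e⁻¹ = r * (s * e * s⁻¹ * e⁻¹) * r⁻¹ * (r * e * r⁻¹ * e⁻¹) := by group
        rw [h4, f.conj_D hr (h3 e he)]
        exact mul_mem (h3 e he) (h2 e he)
      inv_mem' := by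
        rintro r ⟨hr, h2⟩
        refine ⟨inv_mem hr, fun e he => ?_⟩
        have h3 : r⁻¹ * e * r⁻¹⁻¹ ∈ M := hRM _ (inv_mem hr) e he
        have h4 := h2 _ h3
        have h5 : r * (r⁻¹ * e * r⁻¹⁻¹) * r⁻¹ * (r⁻¹ * e * r⁻¹⁻¹)⁻¹ = (r⁻¹ * e * r⁻¹⁻¹ * e⁻¹)⁻¹ := by group
        rw [h5] at h4
        have := inv_mem h4
        rwa [inv_inv] at this }
  have hKR : K ≤ R := fun r hr => hr.1
  have hKn : ∀ r ∈ R, ∀ k ∈ K, r * k * r⁻¹ ∈ K := by
    intro r hr s hs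
    refine ⟨R.mul_mem (R.mul_mem hr hs.1) (R.inv_mem hr), fun e he => ?_⟩
    have h3 : r⁻¹ * e * r⁻¹⁻¹ ∈ M := hRM _ (inv_mem hr) e he
    have h4 := hs.2 _ h3
    have h5 : r * s * r⁻¹ * e * (r * s * r⁻¹)⁻¹ * e⁻¹ =
        r * (s * (r⁻¹ * e * r⁻¹⁻¹) * s⁻¹ * (r⁻¹ * e * r⁻¹⁻¹)⁻¹) * r⁻¹ := by group
    rw [h5, f.conj_D hr h4]
    exact h4
  have hTKn : T ≤ normalizer (K : Set G) := by
    intro t ht
    refine mem_normalizer_of_cj_le ?_
    rintro _ ⟨s, hs, rfl⟩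
    exact hKn t (f.TR ht) s hs
  -- vectors of the line
  have hTv : ∀ g ∈ normalizer (zl (S : Subgroup G) P : Set G), g ∈ centralizer (D : Set G) →
      ∀ v ∈ M, v ∈ zl (S : Subgroup G) P → o.e (g * v * g⁻¹) = o.e v := fun g hg hgD v hvM hv =>
    f.out_comm o hvM (hV2 g hg hgD v hv)
  have hline : ∀ v ∈ M, v ∈ zl (S : Subgroup G) P → d * v * d⁻¹ ∈ M ∧ d * v * d⁻¹ ∈ zl (S : Subgroup G) P := by
    intro v hvM hv
    have h1 := hRM d hd v hvM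
    refine ⟨h1, (o.line _ h1).2 ?_⟩
    rw [hdA v hvM, ap_one', dg_10, dg_11, (o.line v hvM).1 hv]
    ring
  -- `[T, d] ≤ T K`
  have hTK : ∀ t ∈ T, t * d * t⁻¹ * d⁻¹ ∈ T ⊔ K := by
    intro t ht
    have htR := f.TR ht
    obtain ⟨A, hA⟩ := o.norm t htR d hd (dg c hc) hdA
    set w := t * d * t⁻¹ with hw
    have hwR : w ∈ R := R.mul_mem (R.mul_mem htR hd) (R.inv_mem htR)
    -- `w` and `d` agree on the line
    have h1 : ∀ v ∈ M, v ∈ zl (S : Subgroup G) P → o.e (w * v * w⁻¹) = o.e (d * v * d⁻¹) := by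
      intro v hvM hv
      have h2 : t⁻¹ * v * t⁻¹⁻¹ ∈ M := hRM _ (inv_mem htR) v hvM
      have h3 : t⁻¹ * v * t⁻¹⁻¹ ∈ zl (S : Subgroup G) P :=
        (mem_normalizer_iff.1 (f.T_le (inv_mem ht)) v).1 hv
      have h4 := hTv _ (f.T_le (inv_mem ht)) (f.syl.1 (inv_mem ht)) v hvM hv
      obtain ⟨h5, h6⟩ := hline _ h2 h3
      have h7 := hTv t (f.T_le ht) (f.syl.1 ht) _ h5 h6
      have e1 : w * v * w⁻¹ = t * (d * (t⁻¹ * v * t⁻¹⁻¹) * d⁻¹) * t⁻¹ := by rw [hw]; group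
      rw [e1, h7, hdA _ h2, h4, hdA v hvM]
    -- `A = up _ * dg c`
    obtain ⟨v₀, hv₀M, hv₀⟩ := o.surj ![1, 0]
    have hv₀V : v₀ ∈ zl (S : Subgroup G) P := (o.line v₀ hv₀M).2 (by rw [hv₀]; rfl)
    have h2 := h1 v₀ hv₀M hv₀V
    rw [hA v₀ hv₀M, hdA v₀ hv₀M, hv₀] at h2
    have a0 : ent A 0 0 = c := by
      have h3 := congrFun h2 0
      rw [ap_zero', ap_zero', dg_00, dg_01] at h3
      simpa using h3
    have a1 : ent A 1 0 = 0 := by
      have h3 := congrFun h2 1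
      rw [ap_one', ap_one', dg_10, dg_11] at h3
      simpa using h3
    have a2 : ent A 1 1 = c⁻¹ := by
      have h3 := det_eq A
      rw [a0, a1, mul_zero, sub_zero] at h3
      exact eq_inv_of_mul_eq_one_right h3
    -- the element `w d⁻¹`
    have h3 : ∀ v ∈ M, o.e ((w * d⁻¹) * v * (w * d⁻¹)⁻¹) = ap (up (ent A 0 1 * c)) (o.e v) := by
      intro v hv
      have h4 : d⁻¹ * v * d⁻¹⁻¹ ∈ M := hRM _ (inv_mem hd) v hv
      have h5 : o.e v = ap (dg c hc) (o.e (d⁻¹ * v * d⁻¹⁻¹)) := by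
        rw [← hdA _ h4]; congr 1; group
      have e1 : (w * d⁻¹) * v * (w * d⁻¹)⁻¹ = w * (d⁻¹ * v * d⁻¹⁻¹) * w⁻¹ := by group
      rw [e1, hA _ h4, h5]
      apply ext2
      · rw [ap_zero', ap_zero', ap_zero', ap_one', a0, up_00, up_01, dg_00, dg_01, dg_10, dg_11]
        field_simp
        ring
      · rw [ap_one', ap_one', ap_one', a1, a2, up_10, up_11, dg_10, dg_11]
        ring
    obtain ⟨b, hb, hb1⟩ := (o.root B hB hBO).2 (ent A 0 1 * c)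
    have hbT := hRT B hB hb
    have h4 : b⁻¹ * (w * d⁻¹) ∈ K := by
      have hbR := f.TR hbT
      refine ⟨R.mul_mem (R.inv_mem hbR) (R.mul_mem hwR (R.inv_mem hd)), fun e he => ?_⟩
      have h5 : (w * d⁻¹) * e * (w * d⁻¹)⁻¹ ∈ M := hRM _ (R.mul_mem hwR (R.inv_mem hd)) e he
      have h6 : b * e * b⁻¹ ∈ M := hRM _ hbR e he
      have h7 := f.out_eq o h6 h5 (by rw [h3 e he, hb1 e he])
      have h8 := f.conj_D (inv_mem hbR) h7
      have h9 : b⁻¹ * (w * d⁻¹) * e * (b⁻¹ * (w * d⁻¹))⁻¹ * e⁻¹ =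
          (e * b⁻¹ * ((b * e * b⁻¹)⁻¹ * ((w * d⁻¹) * e * (w * d⁻¹)⁻¹)) * b⁻¹⁻¹ * e⁻¹) := by group
      have h10 : e * b⁻¹ * ((b * e * b⁻¹)⁻¹ * ((w * d⁻¹) * e * (w * d⁻¹)⁻¹)) * b⁻¹⁻¹ * e⁻¹ =
          e * (b⁻¹ * ((b * e * b⁻¹)⁻¹ * ((w * d⁻¹) * e * (w * d⁻¹)⁻¹)) * b⁻¹⁻¹) * e⁻¹ := by group
      rw [h9, h10, h8]
      have h11 : ((b * e * b⁻¹)⁻¹ * ((w * d⁻¹) * e * (w * d⁻¹)⁻¹)) * e =
          e * ((b * e * b⁻¹)⁻¹ * ((w * d⁻¹) * e * (w * d⁻¹)⁻¹)) :=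
        WW_comm (f.D_WW h7) (f.Mod_WW (f.V_WW hwV) he)
      rw [← h11, mul_inv_cancel_right]
      exact h7
    have h5 := (T ⊔ K).mul_mem (mem_sup_left (T := K) hbT) (mem_sup_right (S := T) h4)
    rwa [mul_inv_cancel_left] at h5
  -- Frattini
  have hTKR : T ⊔ K ≤ R := sup_le f.TR hKR
  have hsyl1 : Syl T (T ⊔ K) := ⟨le_sup_left, f.T2, fun Q' hQ' h2 hTQ => f.sylR.2.2 Q' (hQ'.trans hTKR) h2 hTQ⟩
  have hdT : cj d T ≤ T ⊔ K := by
    rintro _ ⟨t, ht, rfl⟩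
    change d * t * d⁻¹ ∈ T ⊔ K
    have h1 := hTK t⁻¹ (inv_mem ht)
    have h2 := (T ⊔ K).mul_mem (mem_sup_left (T := K) ht) h1
    have e1 : t * (t⁻¹ * d * t⁻¹⁻¹ * d⁻¹) = d * t * d⁻¹ := by group
    rwa [e1] at h2
  have hsyl2 : Syl (cj d T) (T ⊔ K) := by
    refine ⟨hdT, isPGroup_cj d f.T2, fun Q' hQ' h2 hTQ => ?_⟩
    have h1 : T ≤ cj d⁻¹ Q' := by
      have := cj_mono d⁻¹ hTQ
      rwa [cj_inv_cj] at this
    have h3 : cj d⁻¹ Q' ≤ R := by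
      rintro _ ⟨q, hq, rfl⟩
      exact R.mul_mem (R.mul_mem (R.inv_mem hd) (hTKR (hQ' hq))) (R.inv_mem (R.inv_mem hd))
    have h4 := f.sylR.2.2 _ h3 (isPGroup_cj _ h2) h1
    rw [← h4, cj_cj_inv]
  obtain ⟨g, hg, hgT⟩ := syl_conj hsyl2 hsyl1
  rw [cj_cj] at hgT
  have hgd : g * d ∈ normalizer (zl (S : Subgroup G) P : Set G) :=
    f.normT (R.mul_mem (hTKR hg) hd) (mem_normalizer_iff_cj.2 hgT)
  -- the action on the line
  have hzM := mem_Mod D R y₀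
  have hzV := hwV
  have h1 := hTv _ hgd (f.RC (R.mul_mem (hTKR hg) hd)) _ hzM hzV
  have hgline : ∀ v ∈ M, v ∈ zl (S : Subgroup G) P → o.e (g * v * g⁻¹) = o.e v := by
    intro v hvM hv
    obtain ⟨t, ht, k, hk, rfl⟩ : ∃ t ∈ T, ∃ k ∈ K, g = t * k := by
      obtain ⟨t, ht, k, hk, e⟩ := SQ1.Bau.mem_sup_norm hTKn hg
      exact ⟨t, ht, k, hk, e⟩
    have e1 : (t * k) * v * (t * k)⁻¹ = (t * (k * v * k⁻¹ * v⁻¹) * t⁻¹) * (t * v * t⁻¹) := by group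
    rw [e1, f.conj_D (f.TR ht) (hk.2 v hvM), f.out_D o (hRM t (f.TR ht) v hvM) (hk.2 v hvM)]
    exact hTv t (f.T_le ht) (f.syl.1 ht) v hvM hv
  obtain ⟨h2, h3⟩ := hline _ hzM hzV
  have e1 : (g * d) * y₀ * (g * d)⁻¹ = g * (d * y₀ * d⁻¹) * g⁻¹ := by group
  rw [e1, hgline _ h2 h3, hdA _ hzM] at h1
  have h4 := congrFun h1 0
  rw [ap_zero', dg_00, dg_01, zero_mul, add_zero] at h4
  have h5 : o.e y₀ 0 ≠ 0 := by
    intro h0
    have h6 : o.e y₀ = 0 := ext2 h0 ((o.line _ hzM).1 hzV)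
    exact hi ((o.ker _ hzM).1 h6)
  exact mul_eq_right₀ h5 |>.1 h4

/-- `C_{O₂(R)}(V)` does not centralise `M`. -/
theorem out_move (hE : ∃ B ∈ Rel, ¬ B ≤ o2 R) (hRT : ∀ B ∈ Rel, B ≤ T)
    (hV2 : ∀ g ∈ normalizer (zl (S : Subgroup G) P : Set G), g ∈ centralizer (D : Set G) →
      ∀ v ∈ zl (S : Subgroup G) P, g * v * g⁻¹ * v⁻¹ ∈ D) :
    ∃ e ∈ Mod D R y₀, ∃ q ∈ o2 P ⊓ o2 R, q * e ≠ e * q := by
  by_contra hcon
  push Not at hcon
  set M := Mod D R y₀ with hM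
  have htwo : ∀ c : F, c = 0 ∨ c = 1 := fun c => by
    by_cases hc : c = 0
    · exact Or.inl hc
    · exact Or.inr (f.out_two o hwV hi hE hRT hV2 c hc)
  have hRM : ∀ r ∈ R, ∀ e ∈ M, r * e * r⁻¹ ∈ M := fun r hr e he => f.Mod_norm hr he
  have hMW : M ≤ WW ε := f.Mod_WW (f.V_WW hwV)
  obtain ⟨u, huM, hu⟩ := o.surj ![0, 1]
  have huW := hMW huM
  have huV : u ∉ zl (S : Subgroup G) P := fun h0 => by
    have := (o.line u huM).1 h0
    rw [hu] at this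
    exact one_ne_zero this
  have hsq : ∀ v ∈ M, v * v = 1 := fun v hv => WW_sq (hMW hv)
  have hchar : (1 : F) + 1 = 0 := by
    have h1 := o.mul u huM u huM
    rw [hsq u huM, (o.ker 1 (one_mem _)).2 (one_mem _), hu] at h1
    have h2 := congrFun h1 1
    simpa using h2.symm
  -- `Q` acts trivially on the line
  have hQl : ∀ q ∈ o2 P, ∀ v ∈ M, v ∈ zl (S : Subgroup G) P → q * v * q⁻¹ = v := fun q hq v _ hv => by
    rw [f.h.VcQ hq hv, mul_inv_cancel_right]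
  have hQR : o2 P ≤ R := f.QT.trans f.TR
  -- `[q, u]` in the line
  have hqu : ∀ q ∈ o2 P, o.e (q * u * q⁻¹) 1 = 1 := by
    intro q hq
    rcases htwo (o.e (q * u * q⁻¹) 1) with h1 | h1
    · exfalso
      apply huV
      have h2 := (o.line _ (hRM q (hQR hq) u huM)).2 h1
      have h3 := hQl q⁻¹ (inv_mem hq) _ (hRM q (hQR hq) u huM) h2
      have e1 : q⁻¹ * (q * u * q⁻¹) * q⁻¹⁻¹ = u := by group
      rw [e1] at h3
      rw [h3]
      exact h2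
    · exact h1
  have hinO : ∀ q ∈ o2 P, o.e (q * u * q⁻¹) = o.e u → q * u * q⁻¹ = u := by
    intro q hq h1
    have h2 : q ∈ o2 R := by
      refine f.mem_O (M := M) hRM (mem_Mod _ _ _) hwV hi (f.QT hq) fun e he => ?_
      -- every element of `M` is `v` or `u v` with `v` in the line
      have h3 : o.e (q * e * q⁻¹) = o.e e := by
        rcases htwo (o.e e 1) with h4 | h4
        · rw [hQl q hq e he ((o.line e he).2 h4)]
        · have h5 : u⁻¹ * e ∈ M := mul_mem (inv_mem huM) he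
          have hui : u⁻¹ = u := inv_eq_of_mul_eq_one_left (hsq u huM)
          have h6 : u⁻¹ * e ∈ zl (S : Subgroup G) P := by
            refine (o.line _ h5).2 ?_
            rw [hui, o.mul u huM e he, hu, Pi.add_apply, h4]
            exact hchar
          have h7 := hQl q hq _ h5 h6
          have e1 : q * e * q⁻¹ = (q * u * q⁻¹) * (q * (u⁻¹ * e) * q⁻¹) := by group
          rw [e1, h7, o.mul _ (hRM q (hQR hq) u huM) _ h5, h1, ← o.mul u huM _ h5, mul_inv_cancel_left]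
      have h4 := f.out_eq o he (hRM q (hQR hq) e he) h3.symm
      have h5 : q * e * q⁻¹ * e⁻¹ = e⁻¹ * (q * e * q⁻¹) :=
        WW_comm (hMW (hRM q (hQR hq) e he)) (inv_mem (hMW he))
      rw [h5]
      exact h4
    rw [hcon u huM q ⟨hq, h2⟩, mul_inv_cancel_right]
  have hcas : ∀ q ∈ o2 P, o.e (q * u * q⁻¹) = o.e u ∨ o.e (q * u * q⁻¹) = ![1, 1] := by
    intro q hq
    rcases htwo (o.e (q * u * q⁻¹) 0) with h1 | h1
    · left; exact ext2 (by rw [h1, hu]; rfl) (by rw [hqu q hq, hu]; rfl)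
    · right; exact ext2 (by rw [h1]; rfl) (by rw [hqu q hq]; rfl)
  apply huV
  by_cases hall : ∀ q ∈ o2 P, q * u * q⁻¹ = u
  · exact SN2.Exact.lemQ f.h (v := 1) (WW_le_Q f.h f.hN huW) (hsq u huM) fun q hq => Or.inl (hall q hq)
  push Not at hall
  obtain ⟨q₀, hq₀, hq₀u⟩ := hall
  have h0 := (hcas q₀ hq₀).resolve_left fun h1 => hq₀u (hinO q₀ hq₀ h1)
  refine SN2.Exact.lemQ f.h (v := q₀ * u * q₀⁻¹ * u⁻¹) (WW_le_Q f.h f.hN huW) (hsq u huM) fun q hq => ?_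
  rcases hcas q hq with h1 | h1
  · exact Or.inl (hinO q hq h1)
  · right
    rw [inv_mul_cancel_right]
    -- `q₀⁻¹ q` fixes `u` modulo `D`
    have hq1 := mul_mem (inv_mem hq₀) hq
    have h2 : o.e ((q₀⁻¹ * q) * u * (q₀⁻¹ * q)⁻¹) = o.e u := by
      have h3 := f.out_eq o (hRM q₀ (hQR hq₀) u huM) (hRM q (hQR hq) u huM) (by rw [h0, h1])
      have h4 := f.conj_D (inv_mem (hQR hq₀)) h3
      have e1 : (q₀⁻¹ * q) * u * (q₀⁻¹ * q)⁻¹ =
          u * (q₀⁻¹ * ((q₀ * u * q₀⁻¹)⁻¹ * (q * u * q⁻¹)) * q₀⁻¹⁻¹) := by group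
      rw [e1, h4, o.mul u huM _ (D_le_Mod _ _ _ h3), (o.ker _ (D_le_Mod _ _ _ h3)).2 h3, add_zero]
    have h3 := hinO _ hq1 h2
    calc q * u * q⁻¹ = q₀ * ((q₀⁻¹ * q) * u * (q₀⁻¹ * q)⁻¹) * q₀⁻¹ := by group
      _ = q₀ * u * q₀⁻¹ := by rw [h3]

end out

/-- **(5)** -/
theorem five_out {i i' k k' : Fin (2 ^ m + 1)} (hii : i ≠ i') (hkk : k ≠ k') (hik : i ≠ k) (hik' : i ≠ k')
    (hi'k : i' ≠ k) (hi'k' : i' ≠ k') (hx : rr ε i i' ∈ D) (hy : rr ε k k' ∈ D) (hi : zz ε i ∉ D)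
    (hk : zz ε k ∉ D) {A : Subgroup G} (hA : Ex P ε i k A)
    (hV2 : ∀ g ∈ normalizer (zl (S : Subgroup G) P : Set G), g ∈ centralizer (D : Set G) →
      ∀ v ∈ zl (S : Subgroup G) P, g * v * g⁻¹ * v⁻¹ ∈ D)
    (H1 : ∀ v ∈ zl (S : Subgroup G) P, (∀ b ∈ o2 R, b * v = v * b) → v ∈ D)
    {F F' : Type} [Field F] [Finite F] [Field F'] [Finite F'] {E E' : Subgroup G} {Rel Rel' : Set (Subgroup G)}
    (o : Out F (zl (S : Subgroup G) P) (o2 P) T R M₀ D E (Mod D R (zz ε i)) (zz ε i) Rel)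
    (o' : Out F' (zl (S : Subgroup G) P) (o2 P) T R M₀ D E' (Mod D R (zz ε k)) (zz ε k) Rel')
    (hA1 : A ⊓ centralizer (zl (S : Subgroup G) P : Set G) ∈ Rel)
    (hA2 : A ⊓ centralizer (zl (S : Subgroup G) P : Set G) ∈ Rel')
    (hE : ∃ B ∈ Rel, ¬ B ≤ o2 R) (hRT : ∀ B ∈ Rel, B ≤ T) : False := by
  classical
  set A0 := A ⊓ centralizer (zl (S : Subgroup G) P : Set G) with hA0
  have hOR : o2 R ≤ R := f.OT.trans f.TR
  -- `E₁ ∩ E₂ = D`
  have hI : Mod D R (zz ε i) ⊓ Mod D R (zz ε k) ≤ D := by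
    refine f.out_inter o (zz_mem f.h.ev i) hi H1 inf_le_left (fun r hr e he => ⟨f.Mod_norm hr he.1, f.Mod_norm hr he.2⟩)
      (le_inf (D_le_Mod _ _ _) (D_le_Mod _ _ _)) fun e he b hb => ?_
    rw [← comm_iff]
    rcases f.comm_Mod (f.V_WW (zz_mem f.h.ev i)) hx (fun t ht => f.comm_zz hii hx ht) hb he.1 with h1 | h1
    · exact h1
    · rcases f.comm_Mod (f.V_WW (zz_mem f.h.ev k)) hy (fun t ht => f.comm_zz hkk hy ht) hb he.2 with h2 | h2
      · exact h2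
      · exfalso
        rw [h1] at h2
        exact NSix.CaseJ.Fus.rr_ne f.h.ev f.h.five hii hik.symm hik'.symm h2
  -- the fixed points
  have hfix : ∀ (M : Subgroup G), (∀ r ∈ R, ∀ e ∈ M, r * e * r⁻¹ ∈ M) → M ≤ WW ε → ∃ F₁ : Subgroup G,
      ∀ e, e ∈ F₁ ↔ e ∈ M ∧ ∀ b ∈ A0, b * e * b⁻¹ * e⁻¹ ∈ D := by
    intro M hM hMW
    have hA0R : A0 ≤ R := ((SN2.Exact.le_Q f.h hA).trans f.QT).trans f.TR
    refine ⟨{ carrier := {e | e ∈ M ∧ ∀ b ∈ A0, b * e * b⁻¹ * e⁻¹ ∈ D}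
              one_mem' := ⟨one_mem _, fun b _ => by
                have : b * 1 * b⁻¹ * (1 : G)⁻¹ = 1 := by group
                rw [this]; exact one_mem _⟩
              mul_mem' := ?_
              inv_mem' := ?_ }, fun e => Iff.rfl⟩
    · rintro e e' ⟨he, h1⟩ ⟨he', h2⟩
      refine ⟨mul_mem he he', fun b hb => ?_⟩
      rw [comm_prod (WW_comm (hMW he) (f.D_WW (h2 b hb)))]
      exact mul_mem (h1 b hb) (h2 b hb)
    · rintro e ⟨he, h1⟩
      have hei : e⁻¹ = e := inv_eq_of_mul_eq_one_left (WW_sq (hMW he))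
      rw [hei]
      exact ⟨he, h1⟩
  obtain ⟨F₁, hF₁⟩ := hfix (Mod D R (zz ε i)) (fun r hr e he => f.Mod_norm hr he)
    (f.Mod_WW (f.V_WW (zz_mem f.h.ev i)))
  obtain ⟨F₂, hF₂⟩ := hfix (Mod D R (zz ε k)) (fun r hr e he => f.Mod_norm hr he)
    (f.Mod_WW (f.V_WW (zz_mem f.h.ev k)))
  have hD : ∀ y : G, y ∈ D ↔ y ∈ Mod D R (zz ε i) ⊓ Mod D R (zz ε k) := fun y =>
    ⟨fun h1 => ⟨D_le_Mod _ _ _ h1, D_le_Mod _ _ _ h1⟩, fun h1 => hI h1⟩
  refine f.five hii hkk hik hik' hi'k hi'k' hx hy hi hk hA H1 (F₁ := F₁) (F₂ := F₂) (κ := (o2 R).relIndex A0)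
    ?_ ?_ relIndex_mul (f.out_index o hA1 hF₁) (f.out_index o' hA2 hF₂) (f.out_move o (zz_mem f.h.ev i) hi hE hRT hV2)
  · intro e
    rw [hF₁]
    exact ⟨fun h1 => ⟨h1.1, fun b hb => (hD _).1 (h1.2 b hb)⟩, fun h1 => ⟨h1.1, fun b hb => (hD _).2 (h1.2 b hb)⟩⟩
  · intro e
    rw [hF₂]
    exact ⟨fun h1 => ⟨h1.1, fun b hb => (hD _).1 (h1.2 b hb)⟩, fun h1 => ⟨h1.1, fun b hb => (hD _).2 (h1.2 b hb)⟩⟩

end Fr

end Cfsg.Agent.Omega.NO3S.SN.TwoP

end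

section


/-!
# THEOREM TWO PAIRS (helper586, #20800 (4), (5); helper28 #21330 (5))

In the relative frame `Fr` there are no two pairs `{i, i'}`, `{k, k'}` of letters in `D` which are moved by `T`, if
`C_V(O₂(R)) ≤ D`, `A₀` does not over-offend on `E_j / (E₁ ∩ E₂)` (`E_j = D ⟨z_j ^ R⟩`) and `C_{O₂(R)}(V)` does not
centralise `E₁`.
-/

set_option autoImplicit false
set_option linter.unusedSectionVars false

namespace Cfsg.Agent.Omega.NO3S.SN.TwoQ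

open Subgroup Cfsg Cfsg.Agent.PLocal.ThompsonJ Cfsg.Agent.ZN Cfsg.Agent.ZN.ChoiceBase
open Cfsg.Agent.ZN.ChoiceSit Cfsg.Agent.PLocal.ElemAbSup
open Cfsg.Agent.Omega.MinPar
open Cfsg.Agent.Omega.S5.Def Cfsg.Agent.Omega.S5.Syl Cfsg.Agent.Omega.S5.Pair
open Cfsg.Agent.Omega.NSix.Base Cfsg.Agent.Omega.NSix.Basic
open Cfsg.Agent.Omega.SQ1.Bau (mem_AA_of_comm elem_comm elem_sq mem_sup_comm card_sup_comm)
open Cfsg.Agent.Omega.NSix.CaseJ.Base Cfsg.Agent.Omega.NSix.CaseJ.Exact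
open Cfsg.Agent.Omega.NSix.CaseJ.LemQ
open Cfsg.Agent.Omega.NO3S.SN.TwoP (zero_ne_last card_le_AA side_norm sylQ two_cosets Q_le_cz cz_of_acts jjQ_conj
  oddGen_sup Mod D_le_Mod conj_mem_Mod mem_Mod Mod_le Mod_conj qf qf_mul qf_eq_zero comm_prod comm_iff count2 split2)

universe u

variable {G : Type u} [Group G] [Finite G] {S : Sylow 2 G} {P : Subgroup G} {m : ℕ}
  {ε : (Fin (2 ^ m + 1) → ZMod 2) → G} {U : Subgroup G}

/-- Sums which avoid the letter `0`. -/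
theorem ne_of_zero (h : NSix.CaseJ.Base.Hyp S P ε) {y : Fin (2 ^ m + 1) → ZMod 2} (h0 : y 0 = 0)
    {a : Fin (2 ^ m + 1)} (ha : y a = 1) : ε y ≠ 1 := by
  intro h1
  rcases (h.ev.ker y).1 h1 with h2 | h2
  · rw [h2] at ha
    exact zero_ne_one ha
  · rw [h2] at h0
    exact one_ne_zero h0

namespace Fr

variable {M₀ D T R : Subgroup G} (f : Fr S P ε U M₀ D T R)
include f

/-- the letters of a pair in `D` whose `z_i` is not in `D` are not `0` -/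
theorem nz {j j' : Fin (2 ^ m + 1)} (h1 : rr ε j j' ∈ D) (h2 : zz ε j ∉ D) : j ≠ 0 ∧ j' ≠ 0 := by
  refine ⟨fun h4 => h2 (h4 ▸ f.z_mem), fun h4 => h2 ?_⟩
  rw [h4] at h1
  have h5 := D.mul_mem h1 f.z_mem
  have h6 : rr ε j 0 * zz ε 0 = zz ε j := by
    change zz ε j * zz ε 0 * zz ε 0 = zz ε j
    rw [mul_assoc, zz_sq f.h.ev, mul_one]
  rwa [h6] at h5

/-- **(4), (5).** -/
theorem five {i i' k k' : Fin (2 ^ m + 1)} (hii : i ≠ i') (hkk : k ≠ k') (hik : i ≠ k) (hik' : i ≠ k')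
    (hi'k : i' ≠ k) (hi'k' : i' ≠ k') (hx : rr ε i i' ∈ D) (hy : rr ε k k' ∈ D) (hi : zz ε i ∉ D)
    (hk : zz ε k ∉ D) {A : Subgroup G} (hA : Ex P ε i k A)
    (H1 : ∀ v ∈ zl (S : Subgroup G) P, (∀ b ∈ o2 R, b * v = v * b) → v ∈ D)
    {F₁ F₂ : Subgroup G} {κ : ℕ}
    (hF1 : ∀ e, e ∈ F₁ ↔ e ∈ Mod D R (zz ε i) ∧ ∀ b ∈ A ⊓ centralizer (zl (S : Subgroup G) P : Set G),
      b * e * b⁻¹ * e⁻¹ ∈ Mod D R (zz ε i) ⊓ Mod D R (zz ε k))
    (hF2 : ∀ e, e ∈ F₂ ↔ e ∈ Mod D R (zz ε k) ∧ ∀ b ∈ A ⊓ centralizer (zl (S : Subgroup G) P : Set G),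
      b * e * b⁻¹ * e⁻¹ ∈ Mod D R (zz ε i) ⊓ Mod D R (zz ε k))
    (hκ : κ * Nat.card ↥((A ⊓ centralizer (zl (S : Subgroup G) P : Set G)) ⊓ o2 R) =
      Nat.card ↥(A ⊓ centralizer (zl (S : Subgroup G) P : Set G)))
    (k1 : κ * Nat.card F₁ ≤ Nat.card (Mod D R (zz ε i))) (k2 : κ * Nat.card F₂ ≤ Nat.card (Mod D R (zz ε k)))
    (H3 : ∃ e ∈ Mod D R (zz ε i), ∃ q ∈ o2 P ⊓ o2 R, q * e ≠ e * q) : False := by
  classical
  obtain ⟨ni, ni'⟩ := f.nz hx hi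
  obtain ⟨nk, nk'⟩ := f.nz hy hk
  have h3 := f.h.three
  obtain ⟨V, hV⟩ : ∃ V, V = zl (S : Subgroup G) P := ⟨_, rfl⟩
  obtain ⟨x, hxd⟩ : ∃ x, x = rr ε i i' := ⟨_, rfl⟩
  obtain ⟨y, hyd⟩ : ∃ y, y = rr ε k k' := ⟨_, rfl⟩
  set E₁ := Mod D R (zz ε i) with hE₁
  set E₂ := Mod D R (zz ε k) with hE₂
  set A0 := A ⊓ centralizer (zl (S : Subgroup G) P : Set G) with hA0
  set B₁ := A0 ⊓ o2 R with hB₁
  obtain ⟨a, haA, haσ⟩ := hA.ex
  have hVW : V ≤ U := hV ▸ f.VU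
  have hE1W : E₁ ≤ U := f.Mod_U (f.VU (zz_mem f.h.ev i))
  have hE2W : E₂ ≤ U := f.Mod_U (f.VU (zz_mem f.h.ev k))
  set E := V ⊔ (E₁ ⊔ E₂) with hE
  have hEW : E ≤ U := sup_le hVW (sup_le hE1W hE2W)
  have hA0Q : A0 ≤ o2 P := SN2.Exact.le_Q f.h hA
  have hA0T : A0 ≤ T := hA0Q.trans f.QT
  have hA0R : A0 ≤ R := hA0T.trans f.TR
  have hA0V : ∀ b ∈ A0, ∀ v ∈ V, b * v = v * b := fun b hb v hv => f.h.VcQ (hA0Q hb) (hV ▸ hv)
  have hxD : x ∈ D := hxd ▸ hx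
  have hyD : y ∈ D := hyd ▸ hy
  have hxx : x * x = 1 := hxd ▸ rr_sq f.h.ev i i'
  have hyy : y * y = 1 := hyd ▸ rr_sq f.h.ev k k'
  have hxy : x * y = y * x := f.hU.comm (f.DU hxD) (f.DU hyD)
  have hx1 : x ≠ 1 := hxd ▸ rr_ne_one f.h.ev h3 hii
  have hy1 : y ≠ 1 := hyd ▸ rr_ne_one f.h.ev h3 hkk
  have hne : x ≠ y := by
    rw [hxd, hyd]
    exact NSix.CaseJ.Fus.rr_ne f.h.ev f.h.five hii hik.symm hik'.symm
  -- nonzero letters
  have nz : ∀ {j j' : Fin (2 ^ m + 1)}, rr ε j j' ∈ D → zz ε j ∉ D → j ≠ 0 ∧ j' ≠ 0 := by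
    intro j j' h1 h2
    refine ⟨fun h4 => h2 (h4 ▸ f.z_mem), fun h4 => h2 ?_⟩
    rw [h4] at h1
    have h5 := D.mul_mem h1 f.z_mem
    have h6 : rr ε j 0 * zz ε 0 = zz ε j := by
      change zz ε j * zz ε 0 * zz ε 0 = zz ε j
      rw [mul_assoc, zz_sq f.h.ev, mul_one]
    rwa [h6] at h5
  obtain ⟨hi0, hi'0⟩ := nz hx hi
  obtain ⟨hk0, hk'0⟩ := nz hy hk
  have haz : a ∈ centralizer ({zz ε 0} : Set G) :=
    cz_of_acts haσ (Equiv.swap_apply_of_ne_of_ne hi0.symm hk0.symm)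
  have haP := hA.AP haA
  -- commutators
  have cE1 : ∀ b ∈ o2 R, ∀ e ∈ E₁, b * e * b⁻¹ * e⁻¹ = 1 ∨ b * e * b⁻¹ * e⁻¹ = x := fun b hb e he =>
    f.comm_Mod (f.VU (zz_mem f.h.ev i)) hxD (fun t ht => hxd ▸ f.comm_zz hii hx ht) hb he
  have cE2 : ∀ b ∈ o2 R, ∀ e ∈ E₂, b * e * b⁻¹ * e⁻¹ = 1 ∨ b * e * b⁻¹ * e⁻¹ = y := fun b hb e he =>
    f.comm_Mod (f.VU (zz_mem f.h.ev k)) hyD (fun t ht => hyd ▸ f.comm_zz hkk hy ht) hb he
  have hmE : ∀ e ∈ E, ∃ v ∈ V, ∃ e₁ ∈ E₁, ∃ e₂ ∈ E₂, e = v * (e₁ * e₂) := by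
    intro e he
    obtain ⟨v, hv, w, hw, rfl⟩ := mem_sup_comm (fun x hx y hy => f.hU.comm (hVW hx) (sup_le hE1W hE2W hy)) he
    obtain ⟨e₁, he₁, e₂, he₂, rfl⟩ := mem_sup_comm (fun x hx y hy => f.hU.comm (hE1W hx) (hE2W hy)) hw
    exact ⟨v, hv, e₁, he₁, e₂, he₂, rfl⟩
  have cprod : ∀ b ∈ R, ∀ e ∈ U, ∀ e' ∈ U,
      b * (e * e') * b⁻¹ * (e * e')⁻¹ = (b * e * b⁻¹ * e⁻¹) * (b * e' * b⁻¹ * e'⁻¹) := by
    intro b hb e he e' he'
    exact comm_prod (f.hU.comm he (mul_mem (f.hU.conj (f.R_cz hb) he') (inv_mem he')))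
  have cE : ∀ b ∈ B₁, ∀ e ∈ E, b * e * b⁻¹ * e⁻¹ = 1 ∨ b * e * b⁻¹ * e⁻¹ = x ∨ b * e * b⁻¹ * e⁻¹ = y ∨
      b * e * b⁻¹ * e⁻¹ = x * y := by
    intro b hb e he
    obtain ⟨v, hv, e₁, he₁, e₂, he₂, rfl⟩ := hmE e he
    have hbR := hA0R hb.1
    rw [cprod b hbR v (hVW hv) _ (mul_mem (hE1W he₁) (hE2W he₂)), cprod b hbR e₁ (hE1W he₁) e₂ (hE2W he₂),
      comm_iff.2 (hA0V b hb.1 v hv), one_mul]
    rcases cE1 b hb.2 e₁ he₁ with h4 | h4 <;> rcases cE2 b hb.2 e₂ he₂ with h5 | h5 <;> rw [h4, h5]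
    · left; rw [one_mul]
    · right; right; left; rw [one_mul]
    · right; left; rw [mul_one]
    · right; right; right; rfl
  have hcD : ∀ b ∈ B₁, ∀ e ∈ E, b * e * b⁻¹ * e⁻¹ ∈ D := by
    intro b hb e he
    rcases cE b hb e he with h4 | h4 | h4 | h4 <;> rw [h4]
    · exact one_mem _
    · exact hxD
    · exact hyD
    · exact mul_mem hxD hyD
  -- `A₀` normalises `E₁`, `E₂`, `E`
  have nE1 : ∀ b ∈ A0, ∀ e ∈ E₁, b * e * b⁻¹ ∈ E₁ := fun b hb e he => f.Mod_norm (hA0R hb) he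
  have nE2 : ∀ b ∈ A0, ∀ e ∈ E₂, b * e * b⁻¹ ∈ E₂ := fun b hb e he => f.Mod_norm (hA0R hb) he
  have hE1E : E₁ ≤ E := le_sup_left.trans le_sup_right
  have hE2E : E₂ ≤ E := le_sup_right.trans le_sup_right
  have hVE : V ≤ E := le_sup_left
  -- centralisers lie in `O`
  have hcO : ∀ b ∈ A0, (∀ e ∈ E, b * e = e * b) → b ∈ B₁ := by
    intro b hb hbe
    refine ⟨hb, ?_⟩
    refine f.mem_O (M := E₁) (fun r hr e he => f.Mod_norm hr he) (mem_Mod _ _ _) (zz_mem f.h.ev i) hi (hA0T hb) ?_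
    intro e he
    rw [comm_iff.2 (hbe e (hE1E he))]
    exact one_mem _
  -- the conjugates of `x`, `y`, `x y` by `a`
  have hxa : a * x * a⁻¹ = rr ε k i' := by
    rw [hxd, rr_conj haσ, Equiv.swap_apply_left, Equiv.swap_apply_of_ne_of_ne hii.symm hi'k]
  have hya : a * y * a⁻¹ = rr ε i k' := by
    rw [hyd, rr_conj haσ, Equiv.swap_apply_right, Equiv.swap_apply_of_ne_of_ne hik'.symm hkk.symm]
  have hxya : a * (x * y) * a⁻¹ = x * y := by
    have e1 : a * (x * y) * a⁻¹ = (a * x * a⁻¹) * (a * y * a⁻¹) := by group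
    rw [e1, hxa, hya, hxd, hyd]
    change zz ε k * zz ε i' * (zz ε i * zz ε k') = zz ε i * zz ε i' * (zz ε k * zz ε k')
    have c1 := zz_comm f.h.ev k i'
    have c2 := zz_comm f.h.ev k i
    have c3 := zz_comm f.h.ev i i'
    calc zz ε k * zz ε i' * (zz ε i * zz ε k') = zz ε i' * (zz ε k * zz ε i) * zz ε k' := by
          rw [c1]; group
      _ = zz ε i' * zz ε i * zz ε k * zz ε k' := by rw [c2]; group
      _ = _ := by rw [← c3]; group
  -- the count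
  have hel : IsElementaryAbelian 2 (E ⊔ cj a E : Subgroup G) :=
    isElementaryAbelian_mono f.hU.el (sup_le hEW (by
      rintro _ ⟨e, he, rfl⟩
      exact f.hU.conj haz (hEW he)))
  have hcount := count2 (B := A0) (B₁ := B₁) (E := E) (U := U) (a := a) hEW
    (fun e he => f.hU.conj haz (hEW he)) (fun u hu v hv => f.hU.comm hu hv)
    (fun b hb => elem_comm hA.elem a haA b hb.1) inf_le_left hcO
    (fun e b => qf x y (b * e * b⁻¹ * e⁻¹))
    (by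
      intro e he e' he' b hb
      rw [cprod b (hA0R hb.1) e (hEW he) e' (hEW he')]
      exact qf_mul hxx hyy hxy hx1 hy1 hne (cE b hb e he) (cE b hb e' he'))
    (by
      intro e he b hb b' hb'
      have e1 : (b * b') * e * (b * b')⁻¹ * e⁻¹ = b * (b' * e * b'⁻¹ * e⁻¹) * b⁻¹ * (b * e * b⁻¹ * e⁻¹) := by group
      rw [e1, f.conj_D (hA0R hb.1) (hcD b' hb' e he), add_comm]
      exact qf_mul hxx hyy hxy hx1 hy1 hne (cE b' hb' e he) (cE b hb e he))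
    (by
      intro b hb h4
      have h5 : ∀ e ∈ E₁, b * e = e * b := by
        intro e he
        have h6 := qf_eq_zero.1 (h4 e (hE1E he))
        rw [← comm_iff]
        rcases cE1 b hb.2 e he with h7 | h7
        · exact h7
        · exfalso
          rw [h7] at h6
          rcases h6 with h6 | h6
          · exact hx1 h6
          · exact hy1 (left_eq_mul.1 h6)
      have h6 : ∀ e ∈ E₂, b * e = e * b := by
        intro e he
        have h6 := qf_eq_zero.1 (h4 e (hE2E he))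
        rw [← comm_iff]
        rcases cE2 b hb.2 e he with h7 | h7
        · exact h7
        · exfalso
          rw [h7] at h6
          rcases h6 with h6 | h6
          · exact hy1 h6
          · exact hx1 (right_eq_mul.1 h6)
      intro e he
      obtain ⟨v, hv, e₁, he₁, e₂, he₂, rfl⟩ := hmE e he
      have c1 : Commute b v := hA0V b hb.1 v hv
      have c2 : Commute b e₁ := h5 e₁ he₁
      have c3 : Commute b e₂ := h6 e₂ he₂
      exact (c1.mul_right (c2.mul_right c3)).eq)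
    (by
      intro e he e' he' b hb h4
      rw [qf_eq_zero]
      have n1 : ∀ {p q : Fin (2 ^ m + 1)}, p ≠ q → ∀ {s t : Fin (2 ^ m + 1)}, s ≠ p → t ≠ p →
          rr ε p q ≠ rr ε s t := fun {p q} hpq {s t} hs ht => NSix.CaseJ.Fus.rr_ne f.h.ev f.h.five hpq hs ht
      have h5 : b * e * b⁻¹ * e⁻¹ = 1 ∨ b * e * b⁻¹ * e⁻¹ = rr ε k i' ∨ b * e * b⁻¹ * e⁻¹ = rr ε i k' ∨
          b * e * b⁻¹ * e⁻¹ = x * y := by
        rw [h4]
        rcases cE b hb e' he' with h6 | h6 | h6 | h6 <;> rw [h6]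
        · left; group
        · right; left; exact hxa
        · right; right; left; exact hya
        · right; right; right; exact hxya
      rcases cE b hb e he with h6 | h6 | h6 | h6
      · exact Or.inl h6
      · exfalso
        rw [h6] at h5
        rcases h5 with h7 | h7 | h7 | h7
        · exact hx1 h7
        · rw [hxd] at h7
          exact n1 hii hik.symm hii.symm h7
        · rw [hxd, rr_symm f.h.ev i i'] at h7
          exact n1 hii.symm hii hi'k'.symm h7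
        · exact hy1 (left_eq_mul.1 h7)
      · exfalso
        rw [h6] at h5
        rcases h5 with h7 | h7 | h7 | h7
        · exact hy1 h7
        · rw [hyd, rr_symm f.h.ev k k'] at h7
          exact n1 hkk.symm hkk hi'k' h7
        · rw [hyd] at h7
          exact n1 hkk hik hkk.symm h7
        · exact hx1 (right_eq_mul.1 h7)
      · exact Or.inr h6)
    (SN2.Exact.count0 f.h hA hik hel (hV ▸ (hVE.trans le_sup_left)))
  -- the lower bound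
  have hlow := split2 (B := A0) (E₁ := E₁) (E₂ := E₂) (V := V) (U := U) (k := κ)
    (fun u hu v hv => f.hU.comm hu hv) hVW hE1W hE2W
    (fun v hv => mem_centralizer_iff.2 fun b hb => hA0V b hb v hv) nE1 nE2 hF1 hF2 k1 k2
  rw [← hE] at hlow
  have hB1p : 0 < Nat.card B₁ := Nat.card_pos
  have hCp : 0 < Nat.card ↥(E ⊓ centralizer (A0 : Set G)) := Nat.card_pos
  have hA0p : 0 < Nat.card A0 := Nat.card_pos
  have hκ0 : 0 < κ := by
    rcases Nat.eq_zero_or_pos κ with h4 | h4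
    · rw [h4, zero_mul] at hκ
      omega
    · exact h4
  have r1 : Nat.card E ≤ κ * Nat.card ↥(E ⊓ centralizer (A0 : Set G)) := by
    have h4 : Nat.card E * Nat.card B₁ ≤ (κ * Nat.card ↥(E ⊓ centralizer (A0 : Set G))) * Nat.card B₁ := by
      calc Nat.card E * Nat.card B₁ ≤ Nat.card A0 * Nat.card ↥(E ⊓ centralizer (A0 : Set G)) := hcount
        _ = (κ * Nat.card B₁) * Nat.card ↥(E ⊓ centralizer (A0 : Set G)) := by rw [hκ]
        _ = _ := by ring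
    exact Nat.le_of_mul_le_mul_right h4 hB1p
  have hκ1 : κ = 1 := by
    have h4 : κ * κ * Nat.card ↥(E ⊓ centralizer (A0 : Set G)) ≤ κ * Nat.card ↥(E ⊓ centralizer (A0 : Set G)) :=
      hlow.trans r1
    have h5 : κ * κ ≤ κ := Nat.le_of_mul_le_mul_right h4 hCp
    nlinarith
  rw [hκ1, one_mul] at r1 hκ
  have hEc : E ≤ centralizer (A0 : Set G) := by
    have h4 : E ⊓ centralizer (A0 : Set G) = E := Subgroup.eq_of_le_of_card_ge inf_le_left r1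
    rw [← h4]
    exact inf_le_right
  -- the end
  obtain ⟨e, he, q, hq, hqe⟩ := H3
  have hqx : q * e * q⁻¹ * e⁻¹ = x := (cE1 q hq.2 e he).resolve_left fun h4 => hqe (comm_iff.1 h4)
  have heE : e ∈ E := hE1E he
  have h4 := SN2.Exact.act f.h hA hik (isElementaryAbelian_mono f.hU.el hEW) (hV ▸ hVE) heE
    (fun b hb => mem_centralizer_iff.1 (hEc heE) b hb) haA
  obtain ⟨v, hv, hev⟩ : ∃ v ∈ V, a * e * a⁻¹ = e * v := by
    rcases h4 with h5 | h5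
    · exact ⟨1, one_mem _, by rw [mul_one]; exact h5⟩
    · exact ⟨rr ε i k, hV ▸ rr_mem f.h.ev i k, h5⟩
  obtain ⟨q', hq'⟩ : ∃ q', q' = a * q * a⁻¹ := ⟨_, rfl⟩
  have hq'Q : q' ∈ o2 P := hq' ▸ f.h.Qn haP hq.1
  have h5 : q' * (e * v) * q'⁻¹ * (e * v)⁻¹ = rr ε k i' := by
    rw [← hxa, ← hqx, ← hev, hq']
    group
  have h6 : q' * e * q'⁻¹ * e⁻¹ = rr ε k i' := by
    rw [← h5]
    have h7 : q' * v * q'⁻¹ = v := by rw [f.h.VcQ hq'Q (hV ▸ hv), mul_inv_cancel_right]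
    calc q' * e * q'⁻¹ * e⁻¹ = q' * e * q'⁻¹ * v * v⁻¹ * e⁻¹ := by group
      _ = q' * e * q'⁻¹ * (q' * v * q'⁻¹) * v⁻¹ * e⁻¹ := by rw [h7]
      _ = _ := by group
  have hrE : rr ε k i' ∈ E₁ := by
    rw [← h6]
    exact mul_mem (f.Mod_norm (f.TR (f.QT hq'Q)) he) (inv_mem he)
  apply hk
  refine H1 _ (zz_mem f.h.ev k) fun c hc => ?_
  obtain ⟨σ, hσ⟩ := f.acts_of (f.T_le (f.OT hc))
  have hcC := f.syl.1 (f.OT hc)
  have hσk := f.perm_of hcC hσ hkk hy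
  have hσi' : σ i' = i' ∨ σ i' = i := f.perm_of hcC hσ hii.symm (by rw [rr_symm f.h.ev]; exact hx)
  rcases hσk with h7 | h7
  · have h8 := zz_conj hσ k
    rw [h7] at h8
    exact comm_of_conj h8
  · exfalso
    have h8 := cE1 c hc _ hrE
    rw [rr_conj hσ, h7, rr_inv f.h.ev] at h8
    have nσ : σ i' ≠ 0 := by
      rcases hσi' with h9 | h9 <;> rw [h9]
      · exact ni'
      · exact ni
    -- `rr k' (σ i') * rr k i' ∈ {1, rr i i'}`
    have hs : ∀ a b c d : Fin (2 ^ m + 1), rr ε a b * rr ε c d =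
        ε (Pi.single a 1 + Pi.single b 1 + (Pi.single c 1 + Pi.single d 1)) := by
      intro a b c d
      rw [f.h.ev.add, ← rr_eq f.h.ev, ← rr_eq f.h.ev]
    rcases h8 with h8 | h8
    · rw [hs] at h8
      refine ne_of_zero f.h (a := k) ?_ ?_ h8
      · simp only [Pi.add_apply]
        rw [Pi.single_eq_of_ne nk'.symm, Pi.single_eq_of_ne nσ.symm, Pi.single_eq_of_ne nk.symm,
          Pi.single_eq_of_ne ni'.symm]
        rfl
      · simp only [Pi.add_apply]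
        have n1 : k ≠ σ i' := by
          rcases hσi' with h9 | h9 <;> rw [h9]
          · exact hi'k.symm
          · exact hik.symm
        rw [Pi.single_eq_of_ne hkk, Pi.single_eq_of_ne n1, Pi.single_eq_same, Pi.single_eq_of_ne hi'k.symm]
        rfl
    · rw [hs, hxd] at h8
      have h9 : ε (Pi.single k' 1 + Pi.single (σ i') 1 + (Pi.single k 1 + Pi.single i' 1) +
          (Pi.single i 1 + Pi.single i' 1)) = 1 := by
        rw [f.h.ev.add, h8, ← rr_eq f.h.ev, rr_sq f.h.ev]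
      refine ne_of_zero f.h (a := k) ?_ ?_ h9
      · simp only [Pi.add_apply]
        rw [Pi.single_eq_of_ne nk'.symm, Pi.single_eq_of_ne nσ.symm, Pi.single_eq_of_ne nk.symm,
          Pi.single_eq_of_ne ni'.symm, Pi.single_eq_of_ne ni.symm]
        rfl
      · simp only [Pi.add_apply]
        have n1 : k ≠ σ i' := by
          rcases hσi' with h9 | h9 <;> rw [h9]
          · exact hi'k.symm
          · exact hik.symm
        rw [Pi.single_eq_of_ne hkk, Pi.single_eq_of_ne n1, Pi.single_eq_same, Pi.single_eq_of_ne hi'k.symm,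
          Pi.single_eq_of_ne hik.symm]
        rfl

end Fr

end Cfsg.Agent.Omega.NO3S.SN.TwoQ

end

section


/-!
# THEOREM TWO PAIRS (helper28 #21330 (5)) from the output of the FF step (helper421)

`SN2.FF.Out F V Q T R M₀ D E (D ⟨z_i ^ R⟩) z_i Rel` for two pairs `{i, i'}`, `{k, k'}` of letters in `D`, all atoms of
`D` of size at most two (`[V, C_L(D)] ≤ D`): contradiction.

* `Fr.out_inter` : the `R`-invariant subgroups of `M` which are centralised by `O₂(R)` lie in `D`;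
* `Fr.out_index` : `|A₀ : A₀ ∩ O₂(R)| |{e ∈ M : [e, A₀] ≤ D}| ≤ |M|`;
* `Fr.out_two` : `|F| = 2`;
* `Fr.out_move` : `C_{O₂(R)}(V)` does not centralise `M`;
* `Fr.five_out`.
-/

set_option autoImplicit false
set_option linter.unusedSectionVars false

namespace Cfsg.Agent.Omega.NO3S.SN.TwoQ

open Subgroup Cfsg Cfsg.Agent.PLocal.ThompsonJ Cfsg.Agent.ZN Cfsg.Agent.ZN.ChoiceBase
open Cfsg.Agent.ZN.ChoiceSit Cfsg.Agent.PLocal.ElemAbSup
open Cfsg.Agent.Omega.MinPar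
open Cfsg.Agent.Omega.S5.Def Cfsg.Agent.Omega.S5.Syl Cfsg.Agent.Omega.S5.Pair
open Cfsg.Agent.Omega.NSix.Base Cfsg.Agent.Omega.NSix.Basic
open Cfsg.Agent.Omega.NSix.CaseJ.Base Cfsg.Agent.Omega.NSix.CaseJ.Exact
open Cfsg.Agent.Omega.NSix.CaseJ.LemQ
open Cfsg.Agent.Omega.NO3S.SN.TwoP (zero_ne_last card_le_AA side_norm sylQ two_cosets Q_le_cz cz_of_acts jjQ_conj
  oddGen_sup Mod D_le_Mod conj_mem_Mod mem_Mod Mod_le Mod_conj qf qf_mul qf_eq_zero comm_prod comm_iff count2 split2 relIndex_mul_card' relIndex_mul)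
open Cfsg.Agent.Omega.NO3S.SN2.FF (Out)
open Cfsg.Agent.Omega.NatPair (ap ap_zero' ap_one' exists_ap ext2)
open Cfsg.Agent.Lib.SL2Mat

universe u

variable {G : Type u} [Group G] [Finite G] {S : Sylow 2 G} {P : Subgroup G} {m : ℕ}
  {ε : (Fin (2 ^ m + 1) → ZMod 2) → G} {U : Subgroup G}

namespace Fr

variable {M₀ D T R : Subgroup G} (f : Fr S P ε U M₀ D T R)
include f

section out

variable {F : Type} [Field F] [Finite F] {y₀ : G} {E : Subgroup G} {Rel : Set (Subgroup G)}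
  (o : Out F (zl (S : Subgroup G) P) (o2 P) T R M₀ D E (Mod D R y₀) y₀ Rel)
  (hwV : y₀ ∈ zl (S : Subgroup G) P) (hi : y₀ ∉ D)
include o hwV hi

omit hwV hi in
theorem out_eq {v w : G} (hv : v ∈ Mod D R y₀) (hw : w ∈ Mod D R y₀) (h : o.e v = o.e w) :
    v⁻¹ * w ∈ D := by
  have h1 : o.e (v⁻¹ * w) + o.e v = o.e w := by
    rw [add_comm, ← o.mul v hv _ (mul_mem (inv_mem hv) hw), mul_inv_cancel_left]
  rw [h, add_eq_right] at h1
  exact (o.ker _ (mul_mem (inv_mem hv) hw)).1 h1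

omit hwV hi in
theorem out_D {v d : G} (hv : v ∈ Mod D R y₀) (hd : d ∈ D) : o.e (d * v) = o.e v := by
  rw [o.mul d (D_le_Mod _ _ _ hd) v hv, (o.ker d (D_le_Mod _ _ _ hd)).2 hd, zero_add]

omit hwV hi in
/-- commutators in `D` -/
theorem out_comm {v b : G} (hv : v ∈ Mod D R y₀) (hc : b * v * b⁻¹ * v⁻¹ ∈ D) :
    o.e (b * v * b⁻¹) = o.e v := by
  rw [← f.out_D o hv hc, inv_mul_cancel_right]

theorem out_inter (H1 : ∀ v ∈ zl (S : Subgroup G) P, (∀ b ∈ o2 R, b * v = v * b) → v ∈ D) {I : Subgroup G}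
    (hI : I ≤ Mod D R y₀) (hIR : ∀ r ∈ R, ∀ e ∈ I, r * e * r⁻¹ ∈ I) (hDI : D ≤ I)
    (hIO : ∀ e ∈ I, ∀ b ∈ o2 R, b * e = e * b) : I ≤ D := by
  intro e he
  by_contra heD
  have h1 : o.e e ≠ 0 := fun h0 => heD ((o.ker e (hI he)).1 h0)
  have h2 : o.e y₀ ≠ 0 := fun h0 => hi ((o.ker _ (mem_Mod _ _ _)).1 h0)
  obtain ⟨A, hA⟩ := exists_ap h1 h2
  obtain ⟨g, hg, hgA⟩ := o.lift A
  have h3 : o.e (g * e * g⁻¹) = o.e y₀ := by rw [hgA e (hI he), hA]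
  have h4 := f.out_eq o (hI (hIR g hg e he)) (mem_Mod _ _ _) h3
  have h5 : y₀ ∈ I := by
    have := I.mul_mem (hIR g hg e he) (hDI h4)
    rwa [mul_inv_cancel_left] at this
  exact hi (H1 _ hwV fun b hb => hIO _ h5 b hb)

omit hwV hi in
theorem out_index {B F₁ : Subgroup G} (hB : B ∈ Rel)
    (hF : ∀ e, e ∈ F₁ ↔ e ∈ Mod D R y₀ ∧ ∀ b ∈ B, b * e * b⁻¹ * e⁻¹ ∈ D) :
    (o2 R).relIndex B * Nat.card F₁ ≤ Nat.card (Mod D R y₀) := by
  by_cases hBO : B ≤ o2 R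
  · rw [relIndex_eq_one.2 hBO, one_mul]
    exact Subgroup.card_le_of_le fun e he => ((hF e).1 he).1
  · have h1 : F₁ ≤ zl (S : Subgroup G) P ⊓ Mod D R y₀ := by
      intro e he
      obtain ⟨heM, hec⟩ := (hF e).1 he
      refine ⟨(o.line e heM).2 ?_, heM⟩
      obtain ⟨b, hb, hb1⟩ := (o.root B hB hBO).2 1
      have h2 := f.out_comm o heM (hec b hb)
      rw [hb1 e heM] at h2
      have h3 := congrFun h2 0
      rw [ap_zero', up_00, up_01, one_mul, one_mul] at h3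
      exact add_eq_left.1 h3
    have h2 : D ≤ zl (S : Subgroup G) P ⊓ Mod D R y₀ := le_inf f.D_le (D_le_Mod _ _ _)
    have h3 := relIndex_mul_card' h2
    have h4 := relIndex_mul_card' (D_le_Mod D R y₀)
    rw [o.card] at h3
    rw [o.cardM] at h4
    rw [o.F1 B hB hBO, o.card, ← h4, pow_two, mul_assoc, h3]
    exact Nat.mul_le_mul_left _ (Subgroup.card_le_of_le h1)

/-- **`|F| = 2`** if all atoms of `D` have size at most two. -/
theorem out_two (hE : ∃ B ∈ Rel, ¬ B ≤ o2 R) (hRT : ∀ B ∈ Rel, B ≤ T)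
    (hV2 : ∀ g ∈ normalizer (zl (S : Subgroup G) P : Set G), g ∈ centralizer (D : Set G) →
      ∀ v ∈ zl (S : Subgroup G) P, g * v * g⁻¹ * v⁻¹ ∈ D) (c : F) (hc : c ≠ 0) : c = 1 := by
  set M := Mod D R y₀ with hM
  obtain ⟨d, hd, hdA⟩ := o.lift (dg c hc)
  obtain ⟨B, hB, hBO⟩ := hE
  have hRM : ∀ r ∈ R, ∀ e ∈ M, r * e * r⁻¹ ∈ M := fun r hr e he => f.Mod_norm hr he
  -- the kernel
  let K : Subgroup G :=
    { carrier := {r | r ∈ R ∧ ∀ e ∈ M, r * e * r⁻¹ * e⁻¹ ∈ D}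
      one_mem' := ⟨one_mem _, fun e _ => by
        have : (1 : G) * e * 1⁻¹ * e⁻¹ = 1 := by group
        rw [this]; exact one_mem _⟩
      mul_mem' := by
        rintro r s ⟨hr, h2⟩ ⟨hs, h3⟩
        refine ⟨mul_mem hr hs, fun e he => ?_⟩
        have h4 : (r * s) * e * (r * s)⁻¹ * e⁻¹ = r * (s * e * s⁻¹ * e⁻¹) * r⁻¹ * (r * e * r⁻¹ * e⁻¹) := by group
        rw [h4, f.conj_D hr (h3 e he)]
        exact mul_mem (h3 e he) (h2 e he)
      inv_mem' := by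
        rintro r ⟨hr, h2⟩
        refine ⟨inv_mem hr, fun e he => ?_⟩
        have h3 : r⁻¹ * e * r⁻¹⁻¹ ∈ M := hRM _ (inv_mem hr) e he
        have h4 := h2 _ h3
        have h5 : r * (r⁻¹ * e * r⁻¹⁻¹) * r⁻¹ * (r⁻¹ * e * r⁻¹⁻¹)⁻¹ = (r⁻¹ * e * r⁻¹⁻¹ * e⁻¹)⁻¹ := by group
        rw [h5] at h4
        have := inv_mem h4
        rwa [inv_inv] at this }
  have hKR : K ≤ R := fun r hr => hr.1
  have hKn : ∀ r ∈ R, ∀ k ∈ K, r * k * r⁻¹ ∈ K := by
    intro r hr s hs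
    refine ⟨R.mul_mem (R.mul_mem hr hs.1) (R.inv_mem hr), fun e he => ?_⟩
    have h3 : r⁻¹ * e * r⁻¹⁻¹ ∈ M := hRM _ (inv_mem hr) e he
    have h4 := hs.2 _ h3
    have h5 : r * s * r⁻¹ * e * (r * s * r⁻¹)⁻¹ * e⁻¹ =
        r * (s * (r⁻¹ * e * r⁻¹⁻¹) * s⁻¹ * (r⁻¹ * e * r⁻¹⁻¹)⁻¹) * r⁻¹ := by group
    rw [h5, f.conj_D hr h4]
    exact h4
  have hTKn : T ≤ normalizer (K : Set G) := by
    intro t ht
    refine mem_normalizer_of_cj_le ?_
    rintro _ ⟨s, hs, rfl⟩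
    exact hKn t (f.TR ht) s hs
  -- vectors of the line
  have hTv : ∀ g ∈ normalizer (zl (S : Subgroup G) P : Set G), g ∈ centralizer (D : Set G) →
      ∀ v ∈ M, v ∈ zl (S : Subgroup G) P → o.e (g * v * g⁻¹) = o.e v := fun g hg hgD v hvM hv =>
    f.out_comm o hvM (hV2 g hg hgD v hv)
  have hline : ∀ v ∈ M, v ∈ zl (S : Subgroup G) P → d * v * d⁻¹ ∈ M ∧ d * v * d⁻¹ ∈ zl (S : Subgroup G) P := by
    intro v hvM hv
    have h1 := hRM d hd v hvM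
    refine ⟨h1, (o.line _ h1).2 ?_⟩
    rw [hdA v hvM, ap_one', dg_10, dg_11, (o.line v hvM).1 hv]
    ring
  -- `[T, d] ≤ T K`
  have hTK : ∀ t ∈ T, t * d * t⁻¹ * d⁻¹ ∈ T ⊔ K := by
    intro t ht
    have htR := f.TR ht
    obtain ⟨A, hA⟩ := o.norm t htR d hd (dg c hc) hdA
    set w := t * d * t⁻¹ with hw
    have hwR : w ∈ R := R.mul_mem (R.mul_mem htR hd) (R.inv_mem htR)
    -- `w` and `d` agree on the line
    have h1 : ∀ v ∈ M, v ∈ zl (S : Subgroup G) P → o.e (w * v * w⁻¹) = o.e (d * v * d⁻¹) := by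
      intro v hvM hv
      have h2 : t⁻¹ * v * t⁻¹⁻¹ ∈ M := hRM _ (inv_mem htR) v hvM
      have h3 : t⁻¹ * v * t⁻¹⁻¹ ∈ zl (S : Subgroup G) P :=
        (mem_normalizer_iff.1 (f.T_le (inv_mem ht)) v).1 hv
      have h4 := hTv _ (f.T_le (inv_mem ht)) (f.syl.1 (inv_mem ht)) v hvM hv
      obtain ⟨h5, h6⟩ := hline _ h2 h3
      have h7 := hTv t (f.T_le ht) (f.syl.1 ht) _ h5 h6
      have e1 : w * v * w⁻¹ = t * (d * (t⁻¹ * v * t⁻¹⁻¹) * d⁻¹) * t⁻¹ := by rw [hw]; group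
      rw [e1, h7, hdA _ h2, h4, hdA v hvM]
    -- `A = up _ * dg c`
    obtain ⟨v₀, hv₀M, hv₀⟩ := o.surj ![1, 0]
    have hv₀V : v₀ ∈ zl (S : Subgroup G) P := (o.line v₀ hv₀M).2 (by rw [hv₀]; rfl)
    have h2 := h1 v₀ hv₀M hv₀V
    rw [hA v₀ hv₀M, hdA v₀ hv₀M, hv₀] at h2
    have a0 : ent A 0 0 = c := by
      have h3 := congrFun h2 0
      rw [ap_zero', ap_zero', dg_00, dg_01] at h3
      simpa using h3
    have a1 : ent A 1 0 = 0 := by
      have h3 := congrFun h2 1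
      rw [ap_one', ap_one', dg_10, dg_11] at h3
      simpa using h3
    have a2 : ent A 1 1 = c⁻¹ := by
      have h3 := det_eq A
      rw [a0, a1, mul_zero, sub_zero] at h3
      exact eq_inv_of_mul_eq_one_right h3
    -- the element `w d⁻¹`
    have h3 : ∀ v ∈ M, o.e ((w * d⁻¹) * v * (w * d⁻¹)⁻¹) = ap (up (ent A 0 1 * c)) (o.e v) := by
      intro v hv
      have h4 : d⁻¹ * v * d⁻¹⁻¹ ∈ M := hRM _ (inv_mem hd) v hv
      have h5 : o.e v = ap (dg c hc) (o.e (d⁻¹ * v * d⁻¹⁻¹)) := by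
        rw [← hdA _ h4]; congr 1; group
      have e1 : (w * d⁻¹) * v * (w * d⁻¹)⁻¹ = w * (d⁻¹ * v * d⁻¹⁻¹) * w⁻¹ := by group
      rw [e1, hA _ h4, h5]
      apply ext2
      · rw [ap_zero', ap_zero', ap_zero', ap_one', a0, up_00, up_01, dg_00, dg_01, dg_10, dg_11]
        field_simp
        ring
      · rw [ap_one', ap_one', ap_one', a1, a2, up_10, up_11, dg_10, dg_11]
        ring
    obtain ⟨b, hb, hb1⟩ := (o.root B hB hBO).2 (ent A 0 1 * c)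
    have hbT := hRT B hB hb
    have h4 : b⁻¹ * (w * d⁻¹) ∈ K := by
      have hbR := f.TR hbT
      refine ⟨R.mul_mem (R.inv_mem hbR) (R.mul_mem hwR (R.inv_mem hd)), fun e he => ?_⟩
      have h5 : (w * d⁻¹) * e * (w * d⁻¹)⁻¹ ∈ M := hRM _ (R.mul_mem hwR (R.inv_mem hd)) e he
      have h6 : b * e * b⁻¹ ∈ M := hRM _ hbR e he
      have h7 := f.out_eq o h6 h5 (by rw [h3 e he, hb1 e he])
      have h8 := f.conj_D (inv_mem hbR) h7
      have h9 : b⁻¹ * (w * d⁻¹) * e * (b⁻¹ * (w * d⁻¹))⁻¹ * e⁻¹ =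
          (e * b⁻¹ * ((b * e * b⁻¹)⁻¹ * ((w * d⁻¹) * e * (w * d⁻¹)⁻¹)) * b⁻¹⁻¹ * e⁻¹) := by group
      have h10 : e * b⁻¹ * ((b * e * b⁻¹)⁻¹ * ((w * d⁻¹) * e * (w * d⁻¹)⁻¹)) * b⁻¹⁻¹ * e⁻¹ =
          e * (b⁻¹ * ((b * e * b⁻¹)⁻¹ * ((w * d⁻¹) * e * (w * d⁻¹)⁻¹)) * b⁻¹⁻¹) * e⁻¹ := by group
      rw [h9, h10, h8]
      have h11 : ((b * e * b⁻¹)⁻¹ * ((w * d⁻¹) * e * (w * d⁻¹)⁻¹)) * e =
          e * ((b * e * b⁻¹)⁻¹ * ((w * d⁻¹) * e * (w * d⁻¹)⁻¹)) :=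
        f.hU.comm (f.DU h7) (f.Mod_U (f.VU hwV) he)
      rw [← h11, mul_inv_cancel_right]
      exact h7
    have h5 := (T ⊔ K).mul_mem (mem_sup_left (T := K) hbT) (mem_sup_right (S := T) h4)
    rwa [mul_inv_cancel_left] at h5
  -- Frattini
  have hTKR : T ⊔ K ≤ R := sup_le f.TR hKR
  have hsyl1 : Syl T (T ⊔ K) := ⟨le_sup_left, f.T2, fun Q' hQ' h2 hTQ => f.sylR.2.2 Q' (hQ'.trans hTKR) h2 hTQ⟩
  have hdT : cj d T ≤ T ⊔ K := by
    rintro _ ⟨t, ht, rfl⟩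
    change d * t * d⁻¹ ∈ T ⊔ K
    have h1 := hTK t⁻¹ (inv_mem ht)
    have h2 := (T ⊔ K).mul_mem (mem_sup_left (T := K) ht) h1
    have e1 : t * (t⁻¹ * d * t⁻¹⁻¹ * d⁻¹) = d * t * d⁻¹ := by group
    rwa [e1] at h2
  have hsyl2 : Syl (cj d T) (T ⊔ K) := by
    refine ⟨hdT, isPGroup_cj d f.T2, fun Q' hQ' h2 hTQ => ?_⟩
    have h1 : T ≤ cj d⁻¹ Q' := by
      have := cj_mono d⁻¹ hTQ
      rwa [cj_inv_cj] at this
    have h3 : cj d⁻¹ Q' ≤ R := by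
      rintro _ ⟨q, hq, rfl⟩
      exact R.mul_mem (R.mul_mem (R.inv_mem hd) (hTKR (hQ' hq))) (R.inv_mem (R.inv_mem hd))
    have h4 := f.sylR.2.2 _ h3 (isPGroup_cj _ h2) h1
    rw [← h4, cj_cj_inv]
  obtain ⟨g, hg, hgT⟩ := syl_conj hsyl2 hsyl1
  rw [cj_cj] at hgT
  have hgd : g * d ∈ normalizer (zl (S : Subgroup G) P : Set G) :=
    f.normT (R.mul_mem (hTKR hg) hd) (mem_normalizer_iff_cj.2 hgT)
  -- the action on the line
  have hzM := mem_Mod D R y₀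
  have hzV := hwV
  have h1 := hTv _ hgd (f.RC (R.mul_mem (hTKR hg) hd)) _ hzM hzV
  have hgline : ∀ v ∈ M, v ∈ zl (S : Subgroup G) P → o.e (g * v * g⁻¹) = o.e v := by
    intro v hvM hv
    obtain ⟨t, ht, k, hk, rfl⟩ : ∃ t ∈ T, ∃ k ∈ K, g = t * k := by
      obtain ⟨t, ht, k, hk, e⟩ := SQ1.Bau.mem_sup_norm hTKn hg
      exact ⟨t, ht, k, hk, e⟩
    have e1 : (t * k) * v * (t * k)⁻¹ = (t * (k * v * k⁻¹ * v⁻¹) * t⁻¹) * (t * v * t⁻¹) := by group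
    rw [e1, f.conj_D (f.TR ht) (hk.2 v hvM), f.out_D o (hRM t (f.TR ht) v hvM) (hk.2 v hvM)]
    exact hTv t (f.T_le ht) (f.syl.1 ht) v hvM hv
  obtain ⟨h2, h3⟩ := hline _ hzM hzV
  have e1 : (g * d) * y₀ * (g * d)⁻¹ = g * (d * y₀ * d⁻¹) * g⁻¹ := by group
  rw [e1, hgline _ h2 h3, hdA _ hzM] at h1
  have h4 := congrFun h1 0
  rw [ap_zero', dg_00, dg_01, zero_mul, add_zero] at h4
  have h5 : o.e y₀ 0 ≠ 0 := by
    intro h0
    have h6 : o.e y₀ = 0 := ext2 h0 ((o.line _ hzM).1 hzV)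
    exact hi ((o.ker _ hzM).1 h6)
  exact mul_eq_right₀ h5 |>.1 h4

/-- `C_{O₂(R)}(V)` does not centralise `M`. -/
theorem out_move (hE : ∃ B ∈ Rel, ¬ B ≤ o2 R) (hRT : ∀ B ∈ Rel, B ≤ T)
    (hV2 : ∀ g ∈ normalizer (zl (S : Subgroup G) P : Set G), g ∈ centralizer (D : Set G) →
      ∀ v ∈ zl (S : Subgroup G) P, g * v * g⁻¹ * v⁻¹ ∈ D) :
    ∃ e ∈ Mod D R y₀, ∃ q ∈ o2 P ⊓ o2 R, q * e ≠ e * q := by
  by_contra hcon
  push Not at hcon
  set M := Mod D R y₀ with hM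
  have htwo : ∀ c : F, c = 0 ∨ c = 1 := fun c => by
    by_cases hc : c = 0
    · exact Or.inl hc
    · exact Or.inr (f.out_two o hwV hi hE hRT hV2 c hc)
  have hRM : ∀ r ∈ R, ∀ e ∈ M, r * e * r⁻¹ ∈ M := fun r hr e he => f.Mod_norm hr he
  have hMW : M ≤ U := f.Mod_U (f.VU hwV)
  obtain ⟨u, huM, hu⟩ := o.surj ![0, 1]
  have huW := hMW huM
  have huV : u ∉ zl (S : Subgroup G) P := fun h0 => by
    have := (o.line u huM).1 h0
    rw [hu] at this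
    exact one_ne_zero this
  have hsq : ∀ v ∈ M, v * v = 1 := fun v hv => f.hU.sq (hMW hv)
  have hchar : (1 : F) + 1 = 0 := by
    have h1 := o.mul u huM u huM
    rw [hsq u huM, (o.ker 1 (one_mem _)).2 (one_mem _), hu] at h1
    have h2 := congrFun h1 1
    simpa using h2.symm
  -- `Q` acts trivially on the line
  have hQl : ∀ q ∈ o2 P, ∀ v ∈ M, v ∈ zl (S : Subgroup G) P → q * v * q⁻¹ = v := fun q hq v _ hv => by
    rw [f.h.VcQ hq hv, mul_inv_cancel_right]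
  have hQR : o2 P ≤ R := f.QT.trans f.TR
  -- `[q, u]` in the line
  have hqu : ∀ q ∈ o2 P, o.e (q * u * q⁻¹) 1 = 1 := by
    intro q hq
    rcases htwo (o.e (q * u * q⁻¹) 1) with h1 | h1
    · exfalso
      apply huV
      have h2 := (o.line _ (hRM q (hQR hq) u huM)).2 h1
      have h3 := hQl q⁻¹ (inv_mem hq) _ (hRM q (hQR hq) u huM) h2
      have e1 : q⁻¹ * (q * u * q⁻¹) * q⁻¹⁻¹ = u := by group
      rw [e1] at h3
      rw [h3]
      exact h2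
    · exact h1
  have hinO : ∀ q ∈ o2 P, o.e (q * u * q⁻¹) = o.e u → q * u * q⁻¹ = u := by
    intro q hq h1
    have h2 : q ∈ o2 R := by
      refine f.mem_O (M := M) hRM (mem_Mod _ _ _) hwV hi (f.QT hq) fun e he => ?_
      -- every element of `M` is `v` or `u v` with `v` in the line
      have h3 : o.e (q * e * q⁻¹) = o.e e := by
        rcases htwo (o.e e 1) with h4 | h4
        · rw [hQl q hq e he ((o.line e he).2 h4)]
        · have h5 : u⁻¹ * e ∈ M := mul_mem (inv_mem huM) he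
          have hui : u⁻¹ = u := inv_eq_of_mul_eq_one_left (hsq u huM)
          have h6 : u⁻¹ * e ∈ zl (S : Subgroup G) P := by
            refine (o.line _ h5).2 ?_
            rw [hui, o.mul u huM e he, hu, Pi.add_apply, h4]
            exact hchar
          have h7 := hQl q hq _ h5 h6
          have e1 : q * e * q⁻¹ = (q * u * q⁻¹) * (q * (u⁻¹ * e) * q⁻¹) := by group
          rw [e1, h7, o.mul _ (hRM q (hQR hq) u huM) _ h5, h1, ← o.mul u huM _ h5, mul_inv_cancel_left]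
      have h4 := f.out_eq o he (hRM q (hQR hq) e he) h3.symm
      have h5 : q * e * q⁻¹ * e⁻¹ = e⁻¹ * (q * e * q⁻¹) :=
        f.hU.comm (hMW (hRM q (hQR hq) e he)) (inv_mem (hMW he))
      rw [h5]
      exact h4
    rw [hcon u huM q ⟨hq, h2⟩, mul_inv_cancel_right]
  have hcas : ∀ q ∈ o2 P, o.e (q * u * q⁻¹) = o.e u ∨ o.e (q * u * q⁻¹) = ![1, 1] := by
    intro q hq
    rcases htwo (o.e (q * u * q⁻¹) 0) with h1 | h1
    · left; exact ext2 (by rw [h1, hu]; rfl) (by rw [hqu q hq, hu]; rfl)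
    · right; exact ext2 (by rw [h1]; rfl) (by rw [hqu q hq]; rfl)
  apply huV
  by_cases hall : ∀ q ∈ o2 P, q * u * q⁻¹ = u
  · exact SN2.Exact.lemQ f.h (v := 1) (f.hU.le_Q f.h huW) (hsq u huM) fun q hq => Or.inl (hall q hq)
  push Not at hall
  obtain ⟨q₀, hq₀, hq₀u⟩ := hall
  have h0 := (hcas q₀ hq₀).resolve_left fun h1 => hq₀u (hinO q₀ hq₀ h1)
  refine SN2.Exact.lemQ f.h (v := q₀ * u * q₀⁻¹ * u⁻¹) (f.hU.le_Q f.h huW) (hsq u huM) fun q hq => ?_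
  rcases hcas q hq with h1 | h1
  · exact Or.inl (hinO q hq h1)
  · right
    rw [inv_mul_cancel_right]
    -- `q₀⁻¹ q` fixes `u` modulo `D`
    have hq1 := mul_mem (inv_mem hq₀) hq
    have h2 : o.e ((q₀⁻¹ * q) * u * (q₀⁻¹ * q)⁻¹) = o.e u := by
      have h3 := f.out_eq o (hRM q₀ (hQR hq₀) u huM) (hRM q (hQR hq) u huM) (by rw [h0, h1])
      have h4 := f.conj_D (inv_mem (hQR hq₀)) h3
      have e1 : (q₀⁻¹ * q) * u * (q₀⁻¹ * q)⁻¹ =
          u * (q₀⁻¹ * ((q₀ * u * q₀⁻¹)⁻¹ * (q * u * q⁻¹)) * q₀⁻¹⁻¹) := by group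
      rw [e1, h4, o.mul u huM _ (D_le_Mod _ _ _ h3), (o.ker _ (D_le_Mod _ _ _ h3)).2 h3, add_zero]
    have h3 := hinO _ hq1 h2
    calc q * u * q⁻¹ = q₀ * ((q₀⁻¹ * q) * u * (q₀⁻¹ * q)⁻¹) * q₀⁻¹ := by group
      _ = q₀ * u * q₀⁻¹ := by rw [h3]

end out

/-- **(5)** -/
theorem five_out {i i' k k' : Fin (2 ^ m + 1)} (hii : i ≠ i') (hkk : k ≠ k') (hik : i ≠ k) (hik' : i ≠ k')
    (hi'k : i' ≠ k) (hi'k' : i' ≠ k') (hx : rr ε i i' ∈ D) (hy : rr ε k k' ∈ D) (hi : zz ε i ∉ D)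
    (hk : zz ε k ∉ D) {A : Subgroup G} (hA : Ex P ε i k A)
    (hV2 : ∀ g ∈ normalizer (zl (S : Subgroup G) P : Set G), g ∈ centralizer (D : Set G) →
      ∀ v ∈ zl (S : Subgroup G) P, g * v * g⁻¹ * v⁻¹ ∈ D)
    (H1 : ∀ v ∈ zl (S : Subgroup G) P, (∀ b ∈ o2 R, b * v = v * b) → v ∈ D)
    {F F' : Type} [Field F] [Finite F] [Field F'] [Finite F'] {E E' : Subgroup G} {Rel Rel' : Set (Subgroup G)}
    (o : Out F (zl (S : Subgroup G) P) (o2 P) T R M₀ D E (Mod D R (zz ε i)) (zz ε i) Rel)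
    (o' : Out F' (zl (S : Subgroup G) P) (o2 P) T R M₀ D E' (Mod D R (zz ε k)) (zz ε k) Rel')
    (hA1 : A ⊓ centralizer (zl (S : Subgroup G) P : Set G) ∈ Rel)
    (hA2 : A ⊓ centralizer (zl (S : Subgroup G) P : Set G) ∈ Rel')
    (hE : ∃ B ∈ Rel, ¬ B ≤ o2 R) (hRT : ∀ B ∈ Rel, B ≤ T) : False := by
  classical
  set A0 := A ⊓ centralizer (zl (S : Subgroup G) P : Set G) with hA0
  have hOR : o2 R ≤ R := f.OT.trans f.TR
  -- `E₁ ∩ E₂ = D`
  have hI : Mod D R (zz ε i) ⊓ Mod D R (zz ε k) ≤ D := by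
    refine f.out_inter o (zz_mem f.h.ev i) hi H1 inf_le_left (fun r hr e he => ⟨f.Mod_norm hr he.1, f.Mod_norm hr he.2⟩)
      (le_inf (D_le_Mod _ _ _) (D_le_Mod _ _ _)) fun e he b hb => ?_
    rw [← comm_iff]
    rcases f.comm_Mod (f.VU (zz_mem f.h.ev i)) hx (fun t ht => f.comm_zz hii hx ht) hb he.1 with h1 | h1
    · exact h1
    · rcases f.comm_Mod (f.VU (zz_mem f.h.ev k)) hy (fun t ht => f.comm_zz hkk hy ht) hb he.2 with h2 | h2
      · exact h2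
      · exfalso
        rw [h1] at h2
        exact NSix.CaseJ.Fus.rr_ne f.h.ev f.h.five hii hik.symm hik'.symm h2
  -- the fixed points
  have hfix : ∀ (M : Subgroup G), (∀ r ∈ R, ∀ e ∈ M, r * e * r⁻¹ ∈ M) → M ≤ U → ∃ F₁ : Subgroup G,
      ∀ e, e ∈ F₁ ↔ e ∈ M ∧ ∀ b ∈ A0, b * e * b⁻¹ * e⁻¹ ∈ D := by
    intro M hM hMW
    have hA0R : A0 ≤ R := ((SN2.Exact.le_Q f.h hA).trans f.QT).trans f.TR
    refine ⟨{ carrier := {e | e ∈ M ∧ ∀ b ∈ A0, b * e * b⁻¹ * e⁻¹ ∈ D}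
              one_mem' := ⟨one_mem _, fun b _ => by
                have : b * 1 * b⁻¹ * (1 : G)⁻¹ = 1 := by group
                rw [this]; exact one_mem _⟩
              mul_mem' := ?_
              inv_mem' := ?_ }, fun e => Iff.rfl⟩
    · rintro e e' ⟨he, h1⟩ ⟨he', h2⟩
      refine ⟨mul_mem he he', fun b hb => ?_⟩
      rw [comm_prod (f.hU.comm (hMW he) (f.DU (h2 b hb)))]
      exact mul_mem (h1 b hb) (h2 b hb)
    · rintro e ⟨he, h1⟩
      have hei : e⁻¹ = e := inv_eq_of_mul_eq_one_left (f.hU.sq (hMW he))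
      rw [hei]
      exact ⟨he, h1⟩
  obtain ⟨F₁, hF₁⟩ := hfix (Mod D R (zz ε i)) (fun r hr e he => f.Mod_norm hr he)
    (f.Mod_U (f.VU (zz_mem f.h.ev i)))
  obtain ⟨F₂, hF₂⟩ := hfix (Mod D R (zz ε k)) (fun r hr e he => f.Mod_norm hr he)
    (f.Mod_U (f.VU (zz_mem f.h.ev k)))
  have hD : ∀ y : G, y ∈ D ↔ y ∈ Mod D R (zz ε i) ⊓ Mod D R (zz ε k) := fun y =>
    ⟨fun h1 => ⟨D_le_Mod _ _ _ h1, D_le_Mod _ _ _ h1⟩, fun h1 => hI h1⟩
  refine f.five hii hkk hik hik' hi'k hi'k' hx hy hi hk hA H1 (F₁ := F₁) (F₂ := F₂) (κ := (o2 R).relIndex A0)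
    ?_ ?_ relIndex_mul (f.out_index o hA1 hF₁) (f.out_index o' hA2 hF₂) (f.out_move o (zz_mem f.h.ev i) hi hE hRT hV2)
  · intro e
    rw [hF₁]
    exact ⟨fun h1 => ⟨h1.1, fun b hb => (hD _).1 (h1.2 b hb)⟩, fun h1 => ⟨h1.1, fun b hb => (hD _).2 (h1.2 b hb)⟩⟩
  · intro e
    rw [hF₂]
    exact ⟨fun h1 => ⟨h1.1, fun b hb => (hD _).1 (h1.2 b hb)⟩, fun h1 => ⟨h1.1, fun b hb => (hD _).2 (h1.2 b hb)⟩⟩

end Fr

end Cfsg.Agent.Omega.NO3S.SN.TwoQ

end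

end
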